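import Mathlib

/-!
Fields with `2^(2m+1)` elements and the endomorphism `θ t = t^(2^(m+1))`, whose square is squaring.
-/

set_option autoImplicit false

namespace CfsgLib.Suzuki

/-- The standing hypothesis: `m ≥ 1` and `F` has `2^(2m+1)` elements. -/
structure SzHyp (F : Type*) [Fintype F] (m : ℕ) : Prop where
  one_le : 1 ≤ m
  card : Fintype.card F = 2 ^ (2 * m + 1)

/-- `θ t = t^(2^(m+1))`. -/
def sig {F : Type*} [Field F] (m : ℕ) (t : F) : F := t ^ (2 ^ (m + 1))

/-- `ρ t = t^(2^m)`, a square root of `θ`. -/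
def rho {F : Type*} [Monoid F] (m : ℕ) (t : F) : F := t ^ (2 ^ m)

variable {F : Type*} [Field F] {m : ℕ}

theorem sig_one : sig m (1 : F) = 1 := one_pow _
theorem sig_zero : sig m (0 : F) = 0 := zero_pow (by positivity)
theorem sig_mul (x y : F) : sig m (x * y) = sig m x * sig m y := mul_pow ..
theorem sig_div (x y : F) : sig m (x / y) = sig m x / sig m y := div_pow ..
theorem sig_inv (x : F) : sig m x⁻¹ = (sig m x)⁻¹ := inv_pow ..
theorem sig_eq_zero {x : F} : sig m x = 0 ↔ x = 0 := pow_eq_zero_iff (by positivity)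

variable [Fintype F]

namespace SzHyp

variable (h : SzHyp F m)
include h

theorem charTwo : CharP F 2 := by
  obtain ⟨p, hp⟩ := CharP.exists F
  obtain ⟨n, hpp, hn⟩ := FiniteField.card F p
  have : p ∣ 2 ^ (2 * m + 1) := by
    rw [← h.card, hn]
    exact dvd_pow_self p (by exact_mod_cast n.pos.ne')
  obtain rfl : p = 2 := (Nat.prime_dvd_prime_iff_eq hpp Nat.prime_two).1 (hpp.dvd_of_dvd_pow this)
  exact hp

theorem two_zero : (2 : F) = 0 := by
  have := h.charTwo
  exact CharTwo.two_eq_zero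

theorem add_self (x : F) : x + x = 0 := by rw [← two_mul, h.two_zero, zero_mul]

theorem neg_eq (x : F) : -x = x := neg_eq_of_add_eq_zero_left (h.add_self x)

theorem eq_of_add_eq_zero {x y : F} (hxy : x + y = 0) : x = y := by
  rw [← h.neg_eq y]
  exact eq_neg_of_add_eq_zero_left hxy

theorem four_lt_card : 4 < Fintype.card F := by
  rw [h.card]
  calc 4 < 2 ^ (2 * 1 + 1) := by norm_num
    _ ≤ _ := Nat.pow_le_pow_right (by norm_num) (by have := h.one_le; omega)

theorem sig_add (x y : F) : sig m (x + y) = sig m x + sig m y := by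
  have := h.charTwo
  exact add_pow_char_pow (p := 2) ..

theorem sig_sig (x : F) : sig m (sig m x) = x ^ 2 := by
  unfold sig
  have e : 2 ^ (m + 1) * 2 ^ (m + 1) = Fintype.card F * 2 := by
    rw [h.card, ← pow_add, ← pow_succ]
    congr 1
    omega
  rw [← pow_mul, e, pow_mul, FiniteField.pow_card]

theorem pow_sq_inj {x y : F} (hxy : x ^ 2 = y ^ 2) : x = y := by
  have h1 : (x + y) * (x + y) = 0 := by linear_combination hxy + (y ^ 2 + x * y) * h.two_zero
  exact h.eq_of_add_eq_zero (mul_self_eq_zero.1 h1)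

theorem eq_zero_or_one_of_sq {x : F} (hx : x ^ 2 = x) : x = 0 ∨ x = 1 := by
  have : x * (x + 1) = 0 := by linear_combination hx + x * h.two_zero
  rcases mul_eq_zero.1 this with h1 | h1
  · exact Or.inl h1
  · exact Or.inr (h.eq_of_add_eq_zero h1)

theorem sig_fixed {x : F} (hx : sig m x = x) : x = 0 ∨ x = 1 :=
  h.eq_zero_or_one_of_sq (by rw [← h.sig_sig, hx, hx])

theorem eq_one_of_mul_sig {k : F} (hk : k * sig m k = 1) : k = 1 := by
  have hk0 : k ≠ 0 := left_ne_zero_of_mul_eq_one hk
  have h1 : sig m k = k⁻¹ := eq_inv_of_mul_eq_one_right hk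
  have h2 : k ^ 2 = k := by rw [← h.sig_sig, h1, sig_inv, h1, inv_inv]
  exact (h.eq_zero_or_one_of_sq h2).resolve_left hk0

theorem rho_sq (x : F) : rho m x ^ 2 = sig m x := by
  rw [rho, sig, ← pow_mul, pow_succ]

theorem units_rho_sq (k : Fˣ) : ((rho m k : Fˣ) : F) ^ 2 = sig m (k : F) := by
  rw [← h.rho_sq]
  simp [rho]

theorem units_mul_rho_injective {k : Fˣ} (hk : k * rho m k = 1) : k = 1 := by
  apply Units.ext
  apply h.eq_one_of_mul_sig (k := (k : F))
  have h1 : ((k : F) * (rho m k : Fˣ)) ^ 2 = 1 := by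
    rw [← Units.val_mul, hk, Units.val_one, one_pow]
  -- `k² θk = 1`, apply `θ`
  rw [mul_pow, h.units_rho_sq] at h1
  have h2 : sig m ((k : F) ^ 2 * sig m (k : F)) = 1 := by rw [h1, sig_one]
  rw [sig_mul, h.sig_sig, sq (k : F), sig_mul] at h2
  apply h.pow_sq_inj
  linear_combination h2

theorem exists_sq_eq (k : Fˣ) : ∃ j : Fˣ, j * j = k := by
  refine ⟨k ^ (2 ^ (2 * m)), Units.ext ?_⟩
  have : 2 ^ (2 * m) + 2 ^ (2 * m) = Fintype.card F := by rw [h.card, pow_succ]; ring
  rw [← pow_add, Units.val_pow_eq_pow_val, this, FiniteField.pow_card]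

theorem exists_ne_zero_one : ∃ x : F, x ≠ 0 ∧ x ≠ 1 := by
  classical
  by_contra hcon
  push Not at hcon
  have hsub : (Finset.univ : Finset F) ⊆ {0, 1} := fun x _ => by
    rcases eq_or_ne x 0 with rfl | hx
    · simp
    · simp [hcon x hx]
  have h1 := (Finset.card_le_card hsub).trans (Finset.card_le_two)
  have h2 := h.four_lt_card
  rw [Finset.card_univ] at h1
  omega

/-- The monomials `x², θx, x²θx` are linearly independent functions on `F`. -/
theorem coeffs_zero {u v w : F} (hx : ∀ x : F, u * x ^ 2 + v * sig m x + w * (sig m x * x ^ 2) = 0) :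
    u = 0 ∧ v = 0 ∧ w = 0 := by
  open Polynomial in
  have hp : C u * X ^ 2 + C v * X ^ (2 ^ (m + 1)) + C w * X ^ (2 ^ (m + 1) + 2) = 0 := by
    apply eq_zero_of_natDegree_lt_card_of_eval_eq_zero _ (f := fun x : F => x) (fun _ _ e => e)
    · intro x
      simp only [eval_add, eval_mul, eval_C, eval_pow, eval_X, pow_add]
      exact hx x
    · rw [h.card]
      have h4 : 2 ^ (m + 1) + 2 < 2 ^ (2 * m + 1) := by
        have h5 : 2 ^ (m + 2) ≤ 2 ^ (2 * m + 1) :=
          Nat.pow_le_pow_right (by norm_num) (by have := h.one_le; omega)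
        have h6 : 2 ^ 2 ≤ 2 ^ (m + 1) :=
          Nat.pow_le_pow_right (by norm_num) (by have := h.one_le; omega)
        have h7 : 2 ^ (m + 2) = 2 ^ (m + 1) + 2 ^ (m + 1) := by ring
        omega
      refine lt_of_le_of_lt ?_ h4
      refine (natDegree_add_le _ _).trans (max_le ((natDegree_add_le _ _).trans (max_le ?_ ?_)) ?_)
      all_goals refine (natDegree_C_mul_X_pow_le _ _).trans ?_
      all_goals first | exact Nat.le_add_left _ _ | exact Nat.le_add_right _ _ | exact le_rfl
  have hs : 4 ≤ 2 ^ (m + 1) := by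
    calc 4 = 2 ^ 2 := rfl
      _ ≤ _ := Nat.pow_le_pow_right (by norm_num) (by have := h.one_le; omega)
  refine ⟨?_, ?_, ?_⟩
  · have := congrArg (fun p => Polynomial.coeff p 2) hp
    simp only [Polynomial.coeff_add, Polynomial.coeff_C_mul, Polynomial.coeff_X_pow,
      Polynomial.coeff_zero] at this
    simpa [show 2 ≠ 2 ^ (m + 1) by omega, show 2 ≠ 2 ^ (m + 1) + 2 by omega] using this
  · have := congrArg (fun p => Polynomial.coeff p (2 ^ (m + 1))) hp
    simp only [Polynomial.coeff_add, Polynomial.coeff_C_mul, Polynomial.coeff_X_pow,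
      Polynomial.coeff_zero] at this
    simpa [show 2 ^ (m + 1) ≠ 2 by omega] using this
  · have := congrArg (fun p => Polynomial.coeff p (2 ^ (m + 1) + 2)) hp
    simp only [Polynomial.coeff_add, Polynomial.coeff_C_mul, Polynomial.coeff_X_pow,
      Polynomial.coeff_zero] at this
    simpa [show 2 ^ (m + 1) + 2 ≠ 2 by omega] using this

end SzHyp

end CfsgLib.Suzuki
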