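import Mathlib
import Cfsg.Prelude.Def_LieExceptional
import Cfsg.Agent.Lib.Suzuki.Field

/-!
The Suzuki–Tits ovoid and the matrices `T(a,b)`, `D(k)`, `W` preserving it.
-/

set_option autoImplicit false

namespace CfsgLib.Suzuki

open Matrix
open scoped Pointwise

section points

variable {F : Type*} [Field F] {m : ℕ}

local notation "Pt" => Projectivization F (Fin 4 → F)

/-- The ovoid polynomial. -/
def ovf (m : ℕ) (x y : F) : F := x * y + sig m x * x ^ 2 + sig m y

theorem ovf_eq (x y : F) :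
    x * y + x ^ (2 ^ (m + 1) + 2) + y ^ (2 ^ (m + 1)) = ovf m x y := by
  rw [pow_add]
  rfl

/-- The affine vector with parameters `x, y`. -/
def affVec (m : ℕ) (x y : F) : Fin 4 → F := ![ovf m x y, y, x, 1]

theorem affVec_ne_zero (x y : F) : affVec m x y ≠ 0 := fun h => one_ne_zero (congrFun h 3)

theorem infVec_ne_zero : (![1, 0, 0, 0] : Fin 4 → F) ≠ 0 := fun h => one_ne_zero (congrFun h 0)

/-- The affine point with parameters `x, y`. -/
def pAff (m : ℕ) (x y : F) : Pt := Projectivization.mk F (affVec m x y) (affVec_ne_zero x y)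

/-- The point at infinity. -/
abbrev pInf : Pt := Cfsg.suzukiPointInfinity F

theorem mem_ovoid {p : Pt} :
    p ∈ Cfsg.suzukiOvoid F m ↔ p = pInf ∨ ∃ x y, p = pAff m x y := by
  constructor
  · rintro ⟨v, hv, rfl, rfl | ⟨x, y, rfl⟩⟩
    · exact Or.inl rfl
    · refine Or.inr ⟨x, y, ?_⟩
      simp only [pAff, affVec, ← ovf_eq]
  · rintro (rfl | ⟨x, y, rfl⟩)
    · exact ⟨_, infVec_ne_zero, rfl, Or.inl rfl⟩
    · exact ⟨_, affVec_ne_zero x y, rfl, Or.inr ⟨x, y, by simp only [affVec, ← ovf_eq]⟩⟩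

theorem pInf_mem : (pInf : Pt) ∈ Cfsg.suzukiOvoid F m := mem_ovoid.2 (Or.inl rfl)

theorem pAff_mem (x y : F) : pAff m x y ∈ Cfsg.suzukiOvoid F m :=
  mem_ovoid.2 (Or.inr ⟨x, y, rfl⟩)

theorem pAff_ne_pInf (x y : F) : pAff m x y ≠ pInf := by
  intro h
  obtain ⟨a, ha⟩ := (Projectivization.mk_eq_mk_iff' F _ _ _ _).1 h
  simpa [affVec] using congrFun ha 3

theorem pAff_inj {x y x' y' : F} (h : pAff m x y = pAff m x' y') : x = x' ∧ y = y' := by
  obtain ⟨a, ha⟩ := (Projectivization.mk_eq_mk_iff' F _ _ _ _).1 h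
  have h3 : a = 1 := by simpa [affVec] using congrFun ha 3
  subst h3
  exact ⟨by simpa [affVec] using (congrFun ha 2).symm, by simpa [affVec] using (congrFun ha 1).symm⟩

theorem pointZero_eq : Cfsg.suzukiPointZero F = pAff m (0 : F) 0 := by
  simp [Cfsg.suzukiPointZero, pAff, affVec, ovf, sig_zero]

theorem ovoid_card [Fintype F] :
    Nat.card (Cfsg.suzukiOvoid F m) = Fintype.card F ^ 2 + 1 := by
  let f : Option (F × F) → Cfsg.suzukiOvoid F m := fun o =>
    match o with
    | none => ⟨pInf, pInf_mem⟩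
    | some (x, y) => ⟨pAff m x y, pAff_mem x y⟩
  have hf : Function.Bijective f := by
    constructor
    · rintro (_ | ⟨x, y⟩) (_ | ⟨x', y'⟩) he
      · rfl
      · exact absurd (congrArg Subtype.val he).symm (pAff_ne_pInf _ _)
      · exact absurd (congrArg Subtype.val he) (pAff_ne_pInf _ _)
      · obtain ⟨rfl, rfl⟩ := pAff_inj (congrArg Subtype.val he)
        rfl
    · rintro ⟨p, hp⟩
      rcases mem_ovoid.1 hp with rfl | ⟨x, y, rfl⟩
      · exact ⟨none, rfl⟩
      · exact ⟨some (x, y), rfl⟩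
  rw [← Nat.card_congr (Equiv.ofBijective f hf)]
  simp [sq]

theorem smul_mk_eq {g : SpecialLinearGroup (Fin 4) F} {v w : Fin 4 → F} (hv : v ≠ 0) (hw : w ≠ 0)
    (c : F) (h : (g : Matrix (Fin 4) (Fin 4) F) *ᵥ v = c • w) :
    g • Projectivization.mk F v hv = Projectivization.mk F w hw := by
  rw [Projectivization.smul_mk]
  exact (Projectivization.mk_eq_mk_iff' F _ _ _ _).2 ⟨c, h.symm⟩

theorem exists_of_smul_mk_eq {g : SpecialLinearGroup (Fin 4) F} {v w : Fin 4 → F} {hv : v ≠ 0}
    {hw : w ≠ 0} (h : g • Projectivization.mk F v hv = Projectivization.mk F w hw) :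
    ∃ c : F, (g : Matrix (Fin 4) (Fin 4) F) *ᵥ v = c • w := by
  rw [Projectivization.smul_mk] at h
  obtain ⟨c, hc⟩ := (Projectivization.mk_eq_mk_iff' F _ _ _ _).1 h
  exact ⟨c, hc.symm⟩

end points

variable {F : Type*} [Field F] [Fintype F] {m : ℕ}

/-- Extensionality by entries, with the coercion to matrices kept folded. -/
theorem sl_ext {g g' : SpecialLinearGroup (Fin 4) F}
    (e : ∀ i j, (g : Matrix (Fin 4) (Fin 4) F) i j = (g' : Matrix (Fin 4) (Fin 4) F) i j) :
    g = g' := Matrix.SpecialLinearGroup.ext _ _ e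

/-- The matrix `W` reversing the coordinates. -/
def wMat : SpecialLinearGroup (Fin 4) F :=
  ⟨!![0, 0, 0, 1; 0, 0, 1, 0; 0, 1, 0, 0; 1, 0, 0, 0], by
    simp [Matrix.det_succ_row_zero, Fin.sum_univ_succ, Fin.succAbove]
    norm_num⟩

/-- The translation `T(a,b)`. -/
def tMat (m : ℕ) (a b : F) : SpecialLinearGroup (Fin 4) F :=
  ⟨!![1, a, b + sig m a * a, ovf m a b; 0, 1, sig m a, b; 0, 0, 1, a; 0, 0, 0, 1], by
    simp [Matrix.det_succ_row_zero, Fin.sum_univ_succ, Fin.succAbove]⟩

/-- The torus element `D(k)`. -/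
def dMat (m : ℕ) (k : Fˣ) : SpecialLinearGroup (Fin 4) F :=
  ⟨!![((k * rho m k : Fˣ) : F), 0, 0, 0; 0, ((rho m k : Fˣ) : F), 0, 0;
      0, 0, (((rho m k)⁻¹ : Fˣ) : F), 0; 0, 0, 0, (((k * rho m k)⁻¹ : Fˣ) : F)], by
    simp [Matrix.det_succ_row_zero, Fin.sum_univ_succ, Fin.succAbove]
    field_simp⟩

theorem wMat_mul_self : (wMat : SpecialLinearGroup (Fin 4) F) * wMat = 1 := by
  apply sl_ext
  intro i j
  simp only [Matrix.SpecialLinearGroup.coe_mul, Matrix.SpecialLinearGroup.coe_one]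
  fin_cases i <;> fin_cases j <;> simp [wMat, Matrix.SpecialLinearGroup.coe_mul, Matrix.mul_apply, Fin.sum_univ_four]

variable (h : SzHyp F m)
include h

theorem tMat_mul (a b c d : F) :
    tMat m a b * tMat m c d = tMat m (a + c) (b + d + sig m a * c) := by
  apply sl_ext
  intro i j
  simp only [Matrix.SpecialLinearGroup.coe_mul, Matrix.SpecialLinearGroup.coe_one]
  fin_cases i <;> fin_cases j <;>
    simp [tMat, Matrix.SpecialLinearGroup.coe_mul, Matrix.mul_apply, Fin.sum_univ_four, h.sig_add, add_comm]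
  all_goals try simp only [ovf, h.sig_add, sig_mul, h.sig_sig]
  all_goals first
    | ring1
    | linear_combination (-(sig m a * c) : F) * h.two_zero
    | linear_combination
        (-(sig m a * c ^ 2 + a ^ 2 * sig m c + a * c * sig m c + a * c * sig m a) : F) * h.two_zero

theorem tMat_zero : tMat m (0 : F) 0 = 1 := by
  apply sl_ext
  intro i j
  simp only [Matrix.SpecialLinearGroup.coe_mul, Matrix.SpecialLinearGroup.coe_one]
  fin_cases i <;> fin_cases j <;> simp [tMat, ovf, sig_zero]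

theorem tMat_inv (a b : F) : (tMat m a b)⁻¹ = tMat m a (b + sig m a * a) := by
  refine inv_eq_of_mul_eq_one_right ?_
  rw [tMat_mul h, ← tMat_zero h]
  congr 1
  · exact h.add_self a
  · linear_combination (b + sig m a * a) * h.two_zero

theorem dMat_mul (k j : Fˣ) : dMat m k * dMat m j = dMat m (k * j) := by
  apply sl_ext
  intro i l
  simp only [Matrix.SpecialLinearGroup.coe_mul, Matrix.SpecialLinearGroup.coe_one]
  fin_cases i <;> fin_cases l <;>
    simp [dMat, Matrix.SpecialLinearGroup.coe_mul, Matrix.mul_apply, Fin.sum_univ_four, rho, mul_pow]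
  all_goals ring

theorem dMat_one : dMat m (1 : Fˣ) = (1 : SpecialLinearGroup (Fin 4) F) := by
  apply sl_ext
  intro i l
  simp only [Matrix.SpecialLinearGroup.coe_mul, Matrix.SpecialLinearGroup.coe_one]
  fin_cases i <;> fin_cases l <;> simp [dMat, rho]

theorem dMat_conj_tMat (k : Fˣ) (a b : F) :
    dMat m k * tMat m a b = tMat m (k * a) (k * sig m (k : F) * b) * dMat m k := by
  have hr := h.units_rho_sq k
  apply sl_ext
  intro i l
  simp only [Matrix.SpecialLinearGroup.coe_mul, Matrix.SpecialLinearGroup.coe_one]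
  fin_cases i <;> fin_cases l <;>
    simp [dMat, tMat, Matrix.SpecialLinearGroup.coe_mul, Matrix.mul_apply, Fin.sum_univ_four, mul_assoc]
  all_goals field_simp
  all_goals try simp only [ovf, sig_mul, h.sig_sig]
  all_goals try simp only [← hr]
  all_goals ring

theorem wMat_dMat (k : Fˣ) : wMat * dMat m k * wMat = dMat m k⁻¹ := by
  apply sl_ext
  intro i l
  simp only [Matrix.SpecialLinearGroup.coe_mul, Matrix.SpecialLinearGroup.coe_one]
  fin_cases i <;> fin_cases l <;>
    simp [dMat, wMat, Matrix.SpecialLinearGroup.coe_mul, Matrix.mul_apply, Fin.sum_univ_four, rho, mul_comm]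

theorem ovf_add (a b x y : F) :
    ovf m (x + a) (y + b + sig m a * x) =
      ovf m x y + a * y + (b + sig m a * a) * x + ovf m a b := by
  simp only [ovf, h.sig_add, sig_mul, h.sig_sig]
  linear_combination
    (sig m a * x ^ 2 + a ^ 2 * sig m x + a * x * sig m x + a * x * sig m a) * h.two_zero

theorem tMat_smul_pAff (a b x y : F) :
    tMat m a b • pAff m x y = pAff m (x + a) (y + b + sig m a * x) := by
  refine smul_mk_eq _ _ 1 ?_
  rw [one_smul]
  ext i
  fin_cases i <;> simp [tMat, affVec, Matrix.mulVec, dotProduct, Fin.sum_univ_four, ovf_add h] <;> ring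

theorem tMat_smul_pInf (a b : F) : tMat m a b • (pInf : Projectivization F (Fin 4 → F)) = pInf := by
  refine smul_mk_eq _ _ 1 ?_
  rw [one_smul]
  ext i
  fin_cases i <;> simp [tMat, Matrix.mulVec, dotProduct, Fin.sum_univ_four]

theorem dMat_smul_pAff (k : Fˣ) (x y : F) :
    dMat m k • pAff m x y = pAff m ((k : F) * x) (k * sig m (k : F) * y) := by
  refine smul_mk_eq _ _ (((k * rho m k)⁻¹ : Fˣ) : F) ?_
  have hr := h.units_rho_sq k
  ext i
  fin_cases i <;> simp [dMat, affVec, Matrix.mulVec, dotProduct, Fin.sum_univ_four]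
  all_goals field_simp
  all_goals try simp only [ovf, sig_mul, h.sig_sig]
  all_goals try simp only [← hr]
  all_goals ring

theorem dMat_smul_pInf (k : Fˣ) : dMat m k • (pInf : Projectivization F (Fin 4 → F)) = pInf := by
  refine smul_mk_eq _ _ ((k * rho m k : Fˣ) : F) ?_
  ext i
  fin_cases i <;> simp [dMat, Matrix.mulVec, dotProduct, Fin.sum_univ_four]

theorem wMat_smul_pInf : (wMat : SpecialLinearGroup (Fin 4) F) • (pInf : Projectivization F (Fin 4 → F)) = pAff m (0 : F) 0 := by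
  refine smul_mk_eq _ _ 1 ?_
  rw [one_smul]
  ext i
  fin_cases i <;> simp [wMat, affVec, ovf, sig_zero, Matrix.mulVec, dotProduct, Fin.sum_univ_four]

theorem ovf_identity (x y : F) :
    ovf m x y * sig m (ovf m x y) =
      x * y * sig m (ovf m x y) + sig m y * y ^ 2 + sig m x * ovf m x y ^ 2 := by
  simp only [ovf, h.sig_add, sig_mul, h.sig_sig]
  have : sig m (x ^ 2) = sig m x ^ 2 := by rw [sq, sig_mul, sq]
  rw [this]
  linear_combination (-(x ^ 3 * y * sig m x ^ 2 + x * y * sig m x * sig m y)) * h.two_zero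

theorem ovf_eq_zero {x y : F} : ovf m x y = 0 ↔ x = 0 ∧ y = 0 := by
  constructor
  · intro hf
    have h1 := ovf_identity h x y
    rw [hf, sig_zero] at h1
    have h2 : sig m y * y ^ 2 = 0 := by linear_combination -h1
    have hy : y = 0 := by
      rcases mul_eq_zero.1 h2 with h3 | h3
      · exact sig_eq_zero.1 h3
      · exact pow_eq_zero_iff (by norm_num) |>.1 h3
    subst hy
    simp only [ovf, mul_zero, sig_zero, zero_add, add_zero, mul_eq_zero, sig_eq_zero,
      pow_eq_zero_iff two_ne_zero, or_self] at hf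
    exact ⟨hf, rfl⟩
  · rintro ⟨rfl, rfl⟩
    simp [ovf, sig_zero]

theorem wMat_smul_pAff {x y : F} (hxy : ¬(x = 0 ∧ y = 0)) :
    (wMat : SpecialLinearGroup (Fin 4) F) • pAff m x y = pAff m (y / ovf m x y) (x / ovf m x y) := by
  have hf : ovf m x y ≠ 0 := fun e => hxy ((ovf_eq_zero h).1 e)
  have hsf : sig m (ovf m x y) ≠ 0 := fun e => hf (sig_eq_zero.1 e)
  have key : ovf m x y * ovf m (y / ovf m x y) (x / ovf m x y) = 1 := by
    have h1 := ovf_identity h x y
    generalize hg : ovf m x y = g at h1 hf hsf ⊢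
    simp only [ovf, sig_div]
    field_simp
    linear_combination -h1
  refine smul_mk_eq _ _ (ovf m x y) ?_
  ext i
  fin_cases i <;> simp [wMat, affVec, Matrix.mulVec, dotProduct, Fin.sum_univ_four, key]
  all_goals field_simp

omit h in
theorem mem_Sz_of_maps {g : SpecialLinearGroup (Fin 4) F}
    (hg : ∀ p ∈ Cfsg.suzukiOvoid F m, g • p ∈ Cfsg.suzukiOvoid F m) : g ∈ Cfsg.Sz F m := by
  rw [MulAction.mem_stabilizer_iff]
  refine Set.eq_of_subset_of_ncard_le ?_ ?_ (Set.toFinite _)
  · rintro _ ⟨p, hp, rfl⟩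
    exact hg p hp
  · rw [← Set.image_smul, Set.ncard_image_of_injective _ (MulAction.injective g)]

theorem tMat_mem (a b : F) : tMat m a b ∈ Cfsg.Sz F m := by
  refine mem_Sz_of_maps fun p hp => ?_
  rcases mem_ovoid.1 hp with rfl | ⟨x, y, rfl⟩
  · rw [tMat_smul_pInf h]; exact pInf_mem
  · rw [tMat_smul_pAff h]; exact pAff_mem _ _

theorem dMat_mem (k : Fˣ) : dMat m k ∈ Cfsg.Sz F m := by
  refine mem_Sz_of_maps fun p hp => ?_
  rcases mem_ovoid.1 hp with rfl | ⟨x, y, rfl⟩
  · rw [dMat_smul_pInf h]; exact pInf_mem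
  · rw [dMat_smul_pAff h]; exact pAff_mem _ _

theorem wMat_mem : (wMat : SpecialLinearGroup (Fin 4) F) ∈ Cfsg.Sz F m := by
  refine mem_Sz_of_maps fun p hp => ?_
  rcases mem_ovoid.1 hp with rfl | ⟨x, y, rfl⟩
  · rw [wMat_smul_pInf h]; exact pAff_mem _ _
  · by_cases hxy : x = 0 ∧ y = 0
    · obtain ⟨rfl, rfl⟩ := hxy
      rw [← wMat_smul_pInf h, ← mul_smul, wMat_mul_self, one_smul]
      exact pInf_mem
    · rw [wMat_smul_pAff h hxy]; exact pAff_mem _ _

end CfsgLib.Suzuki
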