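import Mathlib
import Cfsg.Prelude.Def_LieExceptional
import Cfsg.Agent.Lib.Suzuki.Ovoid

/-!
The Suzuki group `Cfsg.Sz F m`: stabilisers, order, double transitivity.
-/

set_option autoImplicit false

namespace CfsgLib.Suzuki

open Matrix
open scoped Pointwise

variable {F : Type*} [Field F] [Fintype F] {m : ℕ}

local notation "SL4" => SpecialLinearGroup (Fin 4) F
local notation "Pt" => Projectivization F (Fin 4 → F)

theorem smul_ovoid {g : SL4} (hg : g ∈ Cfsg.Sz F m) {p : Pt} (hp : p ∈ Cfsg.suzukiOvoid F m) :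
    g • p ∈ Cfsg.suzukiOvoid F m := by
  have := MulAction.mem_stabilizer_iff.1 hg
  rw [← this]
  exact Set.smul_mem_smul_set hp

variable (h : SzHyp F m)
include h

/-- `T(a,b)` in the Suzuki group. -/
def tS (a b : F) : Cfsg.Sz F m := ⟨tMat m a b, tMat_mem h a b⟩

/-- `D(k)` in the Suzuki group. -/
def dS (k : Fˣ) : Cfsg.Sz F m := ⟨dMat m k, dMat_mem h k⟩

/-- `W` in the Suzuki group. -/
def wS : Cfsg.Sz F m := ⟨wMat, wMat_mem h⟩

theorem tS_mul (a b c d : F) : tS h a b * tS h c d = tS h (a + c) (b + d + sig m a * c) :=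
  Subtype.ext (tMat_mul h a b c d)

theorem tS_zero : tS h 0 0 = 1 := Subtype.ext (tMat_zero h)

theorem tS_inv (a b : F) : (tS h a b)⁻¹ = tS h a (b + sig m a * a) :=
  Subtype.ext (tMat_inv h a b)

theorem dS_mul (k j : Fˣ) : dS h k * dS h j = dS h (k * j) := Subtype.ext (dMat_mul h k j)

theorem dS_one : dS h 1 = 1 := Subtype.ext (dMat_one h)

theorem dS_inv (k : Fˣ) : (dS h k)⁻¹ = dS h k⁻¹ :=
  inv_eq_of_mul_eq_one_right (by rw [dS_mul, mul_inv_cancel, dS_one])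

/-- `D` as a homomorphism. -/
def dHom : Fˣ →* Cfsg.Sz F m where
  toFun := dS h
  map_one' := dS_one h
  map_mul' k j := (dS_mul h k j).symm

theorem dS_conj (k : Fˣ) (a b : F) :
    dS h k * tS h a b * (dS h k)⁻¹ = tS h ((k : F) * a) (k * sig m (k : F) * b) := by
  rw [mul_inv_eq_iff_eq_mul]
  exact Subtype.ext (dMat_conj_tMat h k a b)

theorem wS_mul_self : wS h * wS h = 1 := Subtype.ext wMat_mul_self

theorem wS_inv : (wS h)⁻¹ = wS h := inv_eq_of_mul_eq_one_right (wS_mul_self h)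

theorem wS_conj_dS (k : Fˣ) : wS h * dS h k * wS h = dS h k⁻¹ := Subtype.ext (wMat_dMat h k)

theorem tS_smul_pAff (a b x y : F) :
    tS h a b • pAff m x y = pAff m (x + a) (y + b + sig m a * x) := tMat_smul_pAff h a b x y

theorem tS_smul_pInf (a b : F) : tS h a b • (pInf : Pt) = pInf := tMat_smul_pInf h a b

theorem tS_smul_p0 (a b : F) : tS h a b • pAff m (0 : F) 0 = pAff m a b := by
  rw [tS_smul_pAff]
  simp

theorem dS_smul_pAff (k : Fˣ) (x y : F) :
    dS h k • pAff m x y = pAff m ((k : F) * x) (k * sig m (k : F) * y) := dMat_smul_pAff h k x y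

theorem dS_smul_pInf (k : Fˣ) : dS h k • (pInf : Pt) = pInf := dMat_smul_pInf h k

theorem dS_smul_p0 (k : Fˣ) : dS h k • pAff m (0 : F) 0 = pAff m (0 : F) 0 := by
  rw [dS_smul_pAff]
  simp

theorem wS_smul_pInf : wS h • (pInf : Pt) = pAff m (0 : F) 0 := wMat_smul_pInf h

theorem wS_smul_p0 : wS h • pAff m (0 : F) 0 = (pInf : Pt) := by
  rw [← wS_smul_pInf h, ← mul_smul, wS_mul_self, one_smul]

theorem wS_smul_pAff {x y : F} (hxy : ¬(x = 0 ∧ y = 0)) :
    wS h • pAff m x y = pAff m (y / ovf m x y) (x / ovf m x y) := wMat_smul_pAff h hxy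

theorem tS_injective {a b a' b' : F} (e : tS h a b = tS h a' b') : a = a' ∧ b = b' :=
  pAff_inj (m := m) (by rw [← tS_smul_p0 h, e, tS_smul_p0])

theorem tS_eq_one {a b : F} : tS h a b = 1 ↔ a = 0 ∧ b = 0 := by
  rw [← tS_zero h]
  exact ⟨tS_injective h, fun ⟨e1, e2⟩ => by rw [e1, e2]⟩

theorem dS_injective : Function.Injective (dS h) := by
  intro k j e
  have h1 : dS h k • pAff m (1 : F) 0 = dS h j • pAff m (1 : F) 0 := by rw [e]
  rw [dS_smul_pAff, dS_smul_pAff] at h1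
  exact Units.ext (by simpa using (pAff_inj h1).1)

theorem smul_pAff_ne {g : Cfsg.Sz F m} (hg : g • (pInf : Pt) = pInf) (x y : F) :
    ∃ x' y', g • pAff m x y = pAff m x' y' := by
  rcases mem_ovoid.1 (smul_ovoid g.2 (pAff_mem (m := m) x y)) with he | he
  · exact absurd (MulAction.injective g (he.trans hg.symm)) (pAff_ne_pInf x y)
  · exact he

/-- Entries forced to vanish in an element fixing the two base points. -/
theorem two_point_entries {g : Cfsg.Sz F m} (h1 : g • (pInf : Pt) = pInf)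
    (h2 : g • pAff m (0 : F) 0 = pAff m 0 0) :
    let M := ((g : SL4) : Matrix (Fin 4) (Fin 4) F)
    M 1 0 = 0 ∧ M 2 0 = 0 ∧ M 3 0 = 0 ∧ M 0 3 = 0 ∧ M 1 3 = 0 ∧ M 2 3 = 0 ∧
      M 3 1 = 0 ∧ M 3 2 = 0 := by
  intro M
  obtain ⟨a, ha⟩ := exists_of_smul_mk_eq (g := (g : SL4)) h1
  obtain ⟨d, hd⟩ := exists_of_smul_mk_eq (g := (g : SL4)) h2
  have a1 := congrFun ha 1
  have a2 := congrFun ha 2
  have a3 := congrFun ha 3
  have d0 := congrFun hd 0
  have d1 := congrFun hd 1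
  have d2 := congrFun hd 2
  simp [Matrix.mulVec, dotProduct, Fin.sum_univ_four] at a1 a2 a3
  simp [affVec, ovf, sig_zero, Matrix.mulVec, dotProduct, Fin.sum_univ_four] at d0 d1 d2
  have e30 : M 3 0 = 0 := a3
  have hL : ∀ x y : F, M 3 1 * y + M 3 2 * x + M 3 3 ≠ 0 := by
    intro x y hzero
    obtain ⟨x', y', hxy⟩ := smul_pAff_ne h h1 x y
    obtain ⟨c, hc⟩ := exists_of_smul_mk_eq (g := (g : SL4)) hxy
    have c3 := congrFun hc 3
    simp [affVec, Matrix.mulVec, dotProduct, Fin.sum_univ_four] at c3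
    have hc0 : c = 0 := by
      have : M 3 0 * ovf m x y + M 3 1 * y + M 3 2 * x + M 3 3 = c := c3
      rw [e30] at this
      linear_combination hzero - this
    subst hc0
    rw [zero_smul] at hc
    have hnz := affVec_ne_zero (m := m) x y
    apply hnz
    have : (g : SL4)⁻¹ • ((g : SL4) • affVec m x y) = affVec m x y := inv_smul_smul _ _
    rw [← this]
    show (g : SL4)⁻¹ • (((g : SL4) : Matrix (Fin 4) (Fin 4) F) *ᵥ affVec m x y) = 0
    rw [hc, smul_zero]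
  refine ⟨a1, a2, a3, d0, d1, d2, ?_, ?_⟩
  · by_contra hne
    exact hL 0 (-M 3 3 / M 3 1) (by field_simp; ring)
  · by_contra hne
    exact hL (-M 3 3 / M 3 2) 0 (by field_simp; ring)

/-- The stabiliser of the two base points consists of the `D(k)`. -/
theorem exists_dS {g : Cfsg.Sz F m} (h1 : g • (pInf : Pt) = pInf)
    (h2 : g • pAff m (0 : F) 0 = pAff m 0 0) : ∃ k, g = dS h k := by
  obtain ⟨e10, e20, e30, e03, e13, e23, e31, e32⟩ := two_point_entries h h1 h2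
  have h1' : (wS h * g * wS h) • (pInf : Pt) = pInf := by
    rw [mul_smul, mul_smul, wS_smul_pInf, h2, wS_smul_p0]
  have h2' : (wS h * g * wS h) • pAff m (0 : F) 0 = pAff m 0 0 := by
    rw [mul_smul, mul_smul, wS_smul_p0, h1, wS_smul_pInf]
  obtain ⟨-, -, -, -, -, -, f31, f32⟩ := two_point_entries h h1' h2'
  have e02 : ((g : SL4) : Matrix (Fin 4) (Fin 4) F) 0 2 = 0 := by
    simp only [Subgroup.coe_mul, Matrix.SpecialLinearGroup.coe_mul] at f31
    simpa [wS, wMat, Matrix.mul_apply, Matrix.vecMul, dotProduct, Fin.sum_univ_four] using f31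
  have e01 : ((g : SL4) : Matrix (Fin 4) (Fin 4) F) 0 1 = 0 := by
    simp only [Subgroup.coe_mul, Matrix.SpecialLinearGroup.coe_mul] at f32
    simpa [wS, wMat, Matrix.mul_apply, Matrix.vecMul, dotProduct, Fin.sum_univ_four] using f32
  have hdet : ((g : SL4) : Matrix (Fin 4) (Fin 4) F).det = 1 := (g : SL4).2
  obtain ⟨M, hMdef⟩ : ∃ M, M = ((g : SL4) : Matrix (Fin 4) (Fin 4) F) := ⟨_, rfl⟩
  rw [← hMdef] at e10 e20 e30 e03 e13 e23 e31 e32 e01 e02 hdet
  have hd3 : M 3 3 ≠ 0 := by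
    intro hz
    rw [Matrix.det_eq_zero_of_row_eq_zero 3 (fun j => by fin_cases j <;> assumption)] at hdet
    exact zero_ne_one hdet
  have himg : ∀ x y : F, M 0 0 * ovf m x y / M 3 3 =
      ovf m ((M 2 1 * y + M 2 2 * x) / M 3 3) ((M 1 1 * y + M 1 2 * x) / M 3 3) := by
    intro x y
    obtain ⟨x', y', hxy⟩ := smul_pAff_ne h h1 x y
    obtain ⟨c, hc⟩ := exists_of_smul_mk_eq (g := (g : SL4)) hxy
    rw [← hMdef] at hc
    have c0 := congrFun hc 0
    have c1 := congrFun hc 1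
    have c2 := congrFun hc 2
    have c3 := congrFun hc 3
    simp [affVec, Matrix.mulVec, dotProduct, Fin.sum_univ_four, e10, e20, e30, e03, e13, e23, e31,
      e32, e01, e02] at c0 c1 c2 c3
    rw [c1, c2, c0, ← c3, mul_div_cancel_left₀ _ hd3, mul_div_cancel_left₀ _ hd3,
      mul_div_cancel_left₀ _ hd3]
  obtain ⟨A, hA⟩ : ∃ A, A = M 0 0 / M 3 3 := ⟨_, rfl⟩
  obtain ⟨b₁, hb₁⟩ : ∃ A, A = M 1 1 / M 3 3 := ⟨_, rfl⟩
  obtain ⟨b₂, hb₂⟩ : ∃ A, A = M 1 2 / M 3 3 := ⟨_, rfl⟩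
  obtain ⟨c₁, hc₁⟩ : ∃ A, A = M 2 1 / M 3 3 := ⟨_, rfl⟩
  obtain ⟨c₂, hc₂⟩ : ∃ A, A = M 2 2 / M 3 3 := ⟨_, rfl⟩
  have himg' : ∀ x y : F, A * ovf m x y = ovf m (c₁ * y + c₂ * x) (b₁ * y + b₂ * x) := by
    intro x y
    rw [hA, hb₁, hb₂, hc₁, hc₂]
    convert himg x y using 1
    · ring
    · congr 1 <;> ring
  have hy0 := h.coeffs_zero (u := c₂ * b₂) (v := sig m b₂) (w := sig m c₂ * c₂ ^ 2 - A)
    (fun x => by
      have := himg' x 0
      simp only [ovf, mul_zero, sig_zero, zero_add, add_zero, sig_mul] at this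
      linear_combination -this)
  have hx0 := h.coeffs_zero (u := c₁ * b₁) (v := sig m b₁ - A) (w := sig m c₁ * c₁ ^ 2)
    (fun y => by
      have := himg' 0 y
      simp only [ovf, mul_zero, zero_mul, sig_zero, zero_add, add_zero, sig_mul] at this
      linear_combination -this)
  have hb₂0 : b₂ = 0 := sig_eq_zero.1 hy0.2.1
  have hc₁0 : c₁ = 0 := by
    rcases mul_eq_zero.1 hx0.2.2 with h3 | h3
    · exact sig_eq_zero.1 h3
    · exact pow_eq_zero_iff (by norm_num) |>.1 h3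
  have hAc : A = c₂ * b₁ := by
    have := himg' 1 1
    simp only [ovf, mul_one, sig_one, one_pow, one_mul, hb₂0, hc₁0, zero_add, add_zero] at this
    have e1 : sig m b₁ = A := sub_eq_zero.1 hx0.2.1
    have e2 : sig m c₂ * c₂ ^ 2 = A := sub_eq_zero.1 hy0.2.2
    rw [e1, e2] at this
    linear_combination this + (c₂ * b₁ - A + A) * h.two_zero - (c₂ * b₁) * h.two_zero
  have hc₂0 : c₂ ≠ 0 := by
    intro hz
    have h22 : M 2 2 = 0 := by
      rw [hc₂] at hz
      exact (div_eq_zero_iff.1 hz).resolve_right hd3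
    have h21 : M 2 1 = 0 := by
      rw [hc₁] at hc₁0
      exact (div_eq_zero_iff.1 hc₁0).resolve_right hd3
    rw [Matrix.det_eq_zero_of_row_eq_zero 2 (fun j => by fin_cases j <;> assumption)] at hdet
    exact zero_ne_one hdet
  have hb₁v : b₁ = c₂ * sig m c₂ := by
    apply mul_left_cancel₀ hc₂0
    linear_combination -hAc - sub_eq_zero.1 hy0.2.2
  obtain ⟨k, hk⟩ : ∃ k : Fˣ, (k : F) = c₂ := ⟨Units.mk0 _ hc₂0, rfl⟩
  refine ⟨k, ?_⟩
  have hr := h.units_rho_sq k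
  set d := M 3 3 with hd
  have h22 : M 2 2 = c₂ * d := by rw [hc₂]; field_simp
  have h11 : M 1 1 = c₂ * sig m c₂ * d := by rw [← hb₁v, hb₁]; field_simp
  have h00 : M 0 0 = sig m c₂ * c₂ ^ 2 * d := by
    rw [sub_eq_zero.1 hy0.2.2, hA]; field_simp
  have h12 : M 1 2 = 0 := by
    rw [hb₂] at hb₂0
    exact (div_eq_zero_iff.1 hb₂0).resolve_right hd3
  have h21 : M 2 1 = 0 := by
    rw [hc₁] at hc₁0
    exact (div_eq_zero_iff.1 hc₁0).resolve_right hd3
  have hdiag : M = Matrix.diagonal ![M 0 0, M 1 1, M 2 2, M 3 3] := by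
    ext i j
    fin_cases i <;> fin_cases j <;>
      simp [e10, e20, e30, e03, e13, e23, e31, e32, e01, e02, h12, h21]
  rw [hdiag, Matrix.det_diagonal] at hdet
  simp [Fin.prod_univ_four] at hdet
  rw [h00, h11, h22, ← hd, ← hk] at hdet
  have hdval : d = (((k * rho m k)⁻¹ : Fˣ) : F) := by
    rw [← hr] at hdet
    simp only [Units.val_inv_eq_inv_val, Units.val_mul]
    apply eq_inv_of_mul_eq_one_left
    apply h.pow_sq_inj
    apply h.pow_sq_inj
    linear_combination hdet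
  have hkr : ((rho m k : Fˣ) : F) ≠ 0 := Units.ne_zero _
  have hk0 : (k : F) ≠ 0 := Units.ne_zero _
  apply Subtype.ext
  apply sl_ext
  intro i j
  show ((g : SL4) : Matrix (Fin 4) (Fin 4) F) i j = _
  rw [← hMdef]
  fin_cases i <;> fin_cases j <;>
    simp [dS, dMat, e10, e20, e30, e03, e13, e23, e31, e32, e01, e02, h12, h21, h00, h11, h22,
      ← hd, hdval, ← hk, ← hr]
  all_goals field_simp

/-- The stabiliser of infinity consists of the `T(a,b) D(k)`. -/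
theorem exists_tS_dS {g : Cfsg.Sz F m} (hg : g • (pInf : Pt) = pInf) :
    ∃ a b k, g = tS h a b * dS h k := by
  obtain ⟨a, b, hab⟩ := smul_pAff_ne h hg 0 0
  have h1 : ((tS h a b)⁻¹ * g) • (pInf : Pt) = pInf := by
    rw [mul_smul, hg, inv_smul_eq_iff, tS_smul_pInf]
  have h2 : ((tS h a b)⁻¹ * g) • pAff m (0 : F) 0 = pAff m 0 0 := by
    rw [mul_smul, hab, inv_smul_eq_iff, tS_smul_p0]
  obtain ⟨k, hk⟩ := exists_dS h h1 h2
  exact ⟨a, b, k, eq_mul_of_inv_mul_eq hk⟩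

theorem tS_dS_injective {a b a' b' : F} {k k' : Fˣ}
    (e : tS h a b * dS h k = tS h a' b' * dS h k') : a = a' ∧ b = b' ∧ k = k' := by
  have h1 : (tS h a b * dS h k) • pAff m (0 : F) 0 = (tS h a' b' * dS h k') • pAff m (0 : F) 0 := by
    rw [e]
  rw [mul_smul, mul_smul, dS_smul_p0, dS_smul_p0, tS_smul_p0, tS_smul_p0] at h1
  obtain ⟨rfl, rfl⟩ := pAff_inj h1
  exact ⟨rfl, rfl, dS_injective h (mul_left_cancel e)⟩

theorem card_stab :
    Nat.card (MulAction.stabilizer (Cfsg.Sz F m) (pInf : Pt)) =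
      (2 ^ (2 * m + 1)) ^ 2 * (2 ^ (2 * m + 1) - 1) := by
  classical
  let f : (F × F) × Fˣ → MulAction.stabilizer (Cfsg.Sz F m) (pInf : Pt) := fun p =>
    ⟨tS h p.1.1 p.1.2 * dS h p.2, by
      rw [MulAction.mem_stabilizer_iff, mul_smul, dS_smul_pInf, tS_smul_pInf]⟩
  have hf : Function.Bijective f := by
    constructor
    · rintro ⟨⟨a, b⟩, k⟩ ⟨⟨a', b'⟩, k'⟩ e
      obtain ⟨rfl, rfl, rfl⟩ := tS_dS_injective h (congrArg Subtype.val e)
      rfl
    · rintro ⟨g, hg⟩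
      obtain ⟨a, b, k, rfl⟩ := exists_tS_dS h hg
      exact ⟨((a, b), k), rfl⟩
  rw [← Nat.card_congr (Equiv.ofBijective f hf), Nat.card_prod, Nat.card_prod, Nat.card_units,
    Nat.card_eq_fintype_card, h.card, sq]

omit h in
theorem coe_smul_ovoid (g : Cfsg.Sz F m) (p : Cfsg.suzukiOvoid F m) :
    ((g • p : Cfsg.suzukiOvoid F m) : Pt) = g • (p : Pt) := rfl

omit h in
theorem stabilizer_coe (p : Cfsg.suzukiOvoid F m) :
    MulAction.stabilizer (Cfsg.Sz F m) p = MulAction.stabilizer (Cfsg.Sz F m) (p : Pt) := by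
  ext g
  rw [MulAction.mem_stabilizer_iff, MulAction.mem_stabilizer_iff, Subtype.ext_iff, coe_smul_ovoid]

/-- Transitivity: every ovoid point is the image of infinity. -/
theorem exists_smul_pInf {p : Pt} (hp : p ∈ Cfsg.suzukiOvoid F m) :
    ∃ g : Cfsg.Sz F m, g • (pInf : Pt) = p := by
  rcases mem_ovoid.1 hp with rfl | ⟨a, b, rfl⟩
  · exact ⟨1, one_smul _ _⟩
  · exact ⟨tS h a b * wS h, by rw [mul_smul, wS_smul_pInf, tS_smul_p0]⟩

theorem isPretransitive : MulAction.IsPretransitive (Cfsg.Sz F m) (Cfsg.suzukiOvoid F m) := by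
  refine ⟨fun p q => ?_⟩
  obtain ⟨g, hg⟩ := exists_smul_pInf h p.2
  obtain ⟨g', hg'⟩ := exists_smul_pInf h q.2
  refine ⟨g' * g⁻¹, Subtype.ext ?_⟩
  rw [coe_smul_ovoid, mul_smul, ← hg, inv_smul_smul, hg']

theorem card : Nat.card (Cfsg.Sz F m) =
    (2 ^ (2 * m + 1)) ^ 2 * ((2 ^ (2 * m + 1)) ^ 2 + 1) * (2 ^ (2 * m + 1) - 1) := by
  have := isPretransitive h
  rw [← Subgroup.index_mul_card
      (MulAction.stabilizer (Cfsg.Sz F m) (⟨pInf, pInf_mem⟩ : Cfsg.suzukiOvoid F m)),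
    MulAction.index_stabilizer_of_transitive, ovoid_card, h.card, stabilizer_coe, card_stab h]
  ring

/-- Double transitivity, normal form: any two points can be moved to `∞, 0`. -/
theorem exists_smul_pair {p q : Pt} (hp : p ∈ Cfsg.suzukiOvoid F m) (hq : q ∈ Cfsg.suzukiOvoid F m)
    (hpq : p ≠ q) : ∃ g : Cfsg.Sz F m, g • p = pInf ∧ g • q = pAff m (0 : F) 0 := by
  obtain ⟨g, hg⟩ := exists_smul_pInf h hp
  have hgp : g⁻¹ • p = pInf := inv_smul_eq_iff.2 hg.symm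
  rcases mem_ovoid.1 (smul_ovoid (g⁻¹).2 hq) with e | ⟨a, b, e⟩
  · exact absurd (MulAction.injective (g⁻¹ : Cfsg.Sz F m) (e.trans hgp.symm)).symm hpq
  · refine ⟨(tS h a b)⁻¹ * g⁻¹, ?_, ?_⟩
    · rw [mul_smul, hgp, inv_smul_eq_iff, tS_smul_pInf]
    · rw [mul_smul]
      change (tS h a b)⁻¹ • ((g⁻¹ : Cfsg.Sz F m) : SL4) • q = _
      rw [e, inv_smul_eq_iff, tS_smul_p0]

theorem isTwoPretransitive :
    MulAction.IsMultiplyPretransitive (Cfsg.Sz F m) (Cfsg.suzukiOvoid F m) 2 := by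
  rw [MulAction.is_two_pretransitive_iff]
  intro a b c d hab hcd
  obtain ⟨g, hga, hgb⟩ := exists_smul_pair h a.2 b.2 (fun e => hab (Subtype.ext e))
  obtain ⟨k, hkc, hkd⟩ := exists_smul_pair h c.2 d.2 (fun e => hcd (Subtype.ext e))
  exact ⟨k⁻¹ * g,
    Subtype.ext (by rw [coe_smul_ovoid, mul_smul, hga, inv_smul_eq_iff, hkc]),
    Subtype.ext (by rw [coe_smul_ovoid, mul_smul, hgb, inv_smul_eq_iff, hkd])⟩

/-- A torus element other than the identity fixes only `∞` and `0`. -/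
theorem dS_fixed {k : Fˣ} (hk : k ≠ 1) {x y : F} (e : dS h k • pAff m x y = pAff m x y) :
    x = 0 ∧ y = 0 := by
  rw [dS_smul_pAff] at e
  obtain ⟨e1, e2⟩ := pAff_inj e
  constructor
  · by_contra hx
    exact hk (Units.ext (by
      simpa using mul_right_cancel₀ hx (e1.trans (one_mul x).symm)))
  · by_contra hy
    exact hk (Units.ext (h.eq_one_of_mul_sig (mul_right_cancel₀ hy (e2.trans (one_mul y).symm))))

theorem eq_one_of_three {g : Cfsg.Sz F m} {a b c : Pt} (ha : a ∈ Cfsg.suzukiOvoid F m)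
    (hb : b ∈ Cfsg.suzukiOvoid F m) (hc : c ∈ Cfsg.suzukiOvoid F m)
    (hab : a ≠ b) (hbc : b ≠ c) (hac : a ≠ c)
    (ga : g • a = a) (gb : g • b = b) (gc : g • c = c) : g = 1 := by
  obtain ⟨x, hxa, hxb⟩ := exists_smul_pair h ha hb hab
  have hfix : ∀ p : Pt, g • p = p → (x * g * x⁻¹) • (x • p) = x • p := fun p hp => by
    rw [mul_smul, inv_smul_smul, mul_smul, hp]
  obtain ⟨k, hk⟩ := exists_dS h (g := x * g * x⁻¹) (by rw [← hxa]; exact hfix a ga)
    (by rw [← hxb]; exact hfix b gb)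
  by_contra hne
  have hk1 : k ≠ 1 := by
    rintro rfl
    exact hne (conj_eq_one_iff.1 (hk.trans (dS_one h)))
  rcases mem_ovoid.1 (smul_ovoid x.2 hc) with e | ⟨p, q, e⟩
  · exact hac (MulAction.injective x (hxa.trans e.symm))
  · have h1 := hfix c gc
    rw [hk] at h1
    change dS h k • ((x : SL4) • c) = (x : SL4) • c at h1
    rw [e] at h1
    obtain ⟨rfl, rfl⟩ := dS_fixed h hk1 h1
    exact hbc (MulAction.injective x (hxb.trans e.symm))

theorem eq_one_of_fix_all {g : Cfsg.Sz F m}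
    (hg : ∀ p ∈ Cfsg.suzukiOvoid F m, g • p = p) : g = 1 :=
  eq_one_of_three h (a := pInf) (b := pAff m 0 0) (c := pAff m 1 0) pInf_mem (pAff_mem _ _)
    (pAff_mem _ _) (pAff_ne_pInf 0 0).symm
    (fun e => zero_ne_one (pAff_inj e).1) (pAff_ne_pInf 1 0).symm
    (hg _ pInf_mem) (hg _ (pAff_mem _ _)) (hg _ (pAff_mem _ _))

theorem faithfulSMul : FaithfulSMul (Cfsg.Sz F m) (Cfsg.suzukiOvoid F m) := by
  refine ⟨fun {g g'} e => ?_⟩
  refine (inv_mul_eq_one.1 (eq_one_of_fix_all h (g := g⁻¹ * g') fun p hp => ?_))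
  rw [mul_smul, inv_smul_eq_iff]
  exact (congrArg Subtype.val (e ⟨p, hp⟩)).symm

end CfsgLib.Suzuki
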