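import Mathlib
import Cfsg.Prelude.Def_LieExceptional
import Cfsg.Agent.Lib.Suzuki.Group
import Cfsg.Agent.S0319
import Cfsg.Agent.S0323

/-!
Simplicity of the Suzuki groups, the invariant form, the ovoid property, the Zassenhaus property.
-/

set_option autoImplicit false

namespace CfsgLib.Suzuki

open Matrix
open scoped Pointwise

variable {F : Type*} [Field F] [Fintype F] {m : ℕ}

local notation "SL4" => SpecialLinearGroup (Fin 4) F
local notation "Pt" => Projectivization F (Fin 4 → F)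

variable (h : SzHyp F m)
include h

/-- The subgroup of translations. -/
def tGroup : Subgroup (Cfsg.Sz F m) where
  carrier := {g | ∃ a b, g = tS h a b}
  mul_mem' := by
    rintro _ _ ⟨a, b, rfl⟩ ⟨c, d, rfl⟩
    exact ⟨_, _, tS_mul h a b c d⟩
  one_mem' := ⟨0, 0, (tS_zero h).symm⟩
  inv_mem' := by
    rintro _ ⟨a, b, rfl⟩
    exact ⟨_, _, tS_inv h a b⟩

theorem tS_mem_tGroup (a b : F) : tS h a b ∈ tGroup h := ⟨a, b, rfl⟩

theorem card_tGroup : Nat.card (tGroup h) = 2 ^ (2 * (2 * m + 1)) := by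
  let f : F × F → tGroup h := fun p => ⟨tS h p.1 p.2, tS_mem_tGroup h _ _⟩
  have hf : Function.Bijective f := by
    constructor
    · rintro ⟨a, b⟩ ⟨c, d⟩ e
      obtain ⟨rfl, rfl⟩ := tS_injective h (congrArg Subtype.val e)
      rfl
    · rintro ⟨g, a, b, rfl⟩
      exact ⟨(a, b), rfl⟩
  rw [← Nat.card_congr (Equiv.ofBijective f hf), Nat.card_prod, Nat.card_eq_fintype_card, h.card,
    ← pow_add, two_mul (2 * m + 1)]

theorem isPGroup_tGroup : IsPGroup 2 (tGroup h) := IsPGroup.of_card (card_tGroup h)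

/-- The point stabiliser of infinity. -/
abbrev borel (F : Type*) [Field F] (m : ℕ) : Subgroup (Cfsg.Sz F m) :=
  MulAction.stabilizer (Cfsg.Sz F m) (pInf : Projectivization F (Fin 4 → F))

theorem tS_mem_borel (a b : F) : tS h a b ∈ borel F m :=
  MulAction.mem_stabilizer_iff.2 (tS_smul_pInf h a b)

theorem dS_mem_borel (k : Fˣ) : dS h k ∈ borel F m :=
  MulAction.mem_stabilizer_iff.2 (dS_smul_pInf h k)

/-- The character of the Borel subgroup with kernel the translations. -/
def borelChar : borel F m →* F where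
  toFun g := (((g : Cfsg.Sz F m) : SL4) : Matrix (Fin 4) (Fin 4) F) 0 0
  map_one' := by simp
  map_mul' g g' := by
    obtain ⟨a, b, k, e⟩ := exists_tS_dS h (MulAction.mem_stabilizer_iff.1 g.2)
    obtain ⟨a', b', k', e'⟩ := exists_tS_dS h (MulAction.mem_stabilizer_iff.1 g'.2)
    simp only [Subgroup.coe_mul, Matrix.SpecialLinearGroup.coe_mul]
    rw [e, e']
    simp only [Subgroup.coe_mul, Matrix.SpecialLinearGroup.coe_mul]
    simp [tS, dS, tMat, dMat, Matrix.vecMul, dotProduct, Matrix.mul_apply, Fin.sum_univ_four]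

theorem borelChar_eq_one {g : borel F m} (hg : borelChar h g = 1) :
    (g : Cfsg.Sz F m) ∈ tGroup h := by
  obtain ⟨a, b, k, e⟩ := exists_tS_dS h (MulAction.mem_stabilizer_iff.1 g.2)
  have h1 : ((k * rho m k : Fˣ) : F) = 1 := by
    have : (((g : Cfsg.Sz F m) : SL4) : Matrix (Fin 4) (Fin 4) F) 0 0 = 1 := hg
    rw [e] at this
    simp only [Subgroup.coe_mul, Matrix.SpecialLinearGroup.coe_mul] at this
    simpa [tS, dS, tMat, dMat, Matrix.vecMul, dotProduct, Matrix.mul_apply, Fin.sum_univ_four]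
      using this
  have hk : k = 1 := h.units_mul_rho_injective (Units.ext h1)
  rw [hk, dS_one, mul_one] at e
  exact ⟨a, b, e⟩

theorem borel_isSolvable : Group.IsSolvable (borel F m) := by
  have := Fact.mk Nat.prime_two
  have : Group.IsNilpotent (tGroup h) := (isPGroup_tGroup h).isNilpotent
  have hle : tGroup h ≤ borel F m := by
    rintro _ ⟨a, b, rfl⟩
    exact tS_mem_borel h a b
  refine Group.isSolvable_of_ker_le_range (Subgroup.inclusion hle) (borelChar h).toHomUnits
    fun g hg => ?_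
  have h1 : borelChar h g = 1 := congrArg Units.val (MonoidHom.mem_ker.1 hg)
  exact ⟨⟨g, borelChar_eq_one h h1⟩, rfl⟩

/-- A normal subgroup containing all translations is everything. -/
theorem eq_top_of_tGroup_le {K : Subgroup (Cfsg.Sz F m)} [hK : K.Normal]
    (hT : tGroup h ≤ K) : K = ⊤ := by
  have hD : ∀ k, dS h k ∈ K := by
    intro k
    -- `K` contains an element interchanging the two ends of a torus up to translations
    have hwt : ∀ a b, wS h * tS h a b * wS h ∈ K := fun a b => by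
      have := hK.conj_mem _ (hT (tS_mem_tGroup h a b)) (wS h)
      rwa [wS_inv] at this
    -- an element of `K` mapping infinity to `0`
    obtain ⟨g, hgK, hg⟩ : ∃ g ∈ K, g • (pInf : Pt) = pAff m (0 : F) 0 := by
      have h0 : ¬((1 : F) = 0 ∧ (0 : F) = 0) := fun e => one_ne_zero e.1
      have h1 : (wS h * tS h 1 0 * wS h) • (pInf : Pt) =
          pAff m (0 / ovf m 1 0) (1 / ovf m (1 : F) 0) := by
        rw [mul_smul, mul_smul, wS_smul_pInf, tS_smul_p0, wS_smul_pAff h h0]
      refine ⟨(tS h (0 / ovf m 1 0) (1 / ovf m (1 : F) 0))⁻¹ * (wS h * tS h 1 0 * wS h),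
        mul_mem (inv_mem (hT (tS_mem_tGroup h _ _))) (hwt 1 0), ?_⟩
      rw [mul_smul, h1, inv_smul_eq_iff, tS_smul_p0]
    -- `g' := w g` fixes infinity, so `w` normalises into `K T D`
    obtain ⟨a, b, j, hj⟩ := exists_tS_dS h (g := wS h * g)
      (by rw [mul_smul, hg, wS_smul_p0])
    have hwd : wS h * dS h j ∈ K := by
      have e2 : dS h j = (tS h a b)⁻¹ * (wS h * g) := eq_inv_mul_of_mul_eq hj.symm
      rw [e2]
      have e3 : wS h * ((tS h a b)⁻¹ * (wS h * g)) = (wS h * (tS h a b)⁻¹ * (wS h)⁻¹) * g := by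
        rw [wS_inv]; group
      rw [e3]
      exact mul_mem (hK.conj_mem _ (inv_mem (hT (tS_mem_tGroup h a b))) _) hgK
    -- conjugating `w D(j)` by `D(i)` and dividing gives `D(i²)`
    obtain ⟨i, hi⟩ := h.exists_sq_eq k
    have h2 := mul_mem (inv_mem hwd) (hK.conj_mem _ hwd (dS h i⁻¹))
    have e : (wS h * dS h j)⁻¹ * (dS h i⁻¹ * (wS h * dS h j) * (dS h i⁻¹)⁻¹) = dS h k := by
      rw [_root_.mul_inv_rev, wS_inv, dS_inv, dS_inv, inv_inv]
      calc dS h j⁻¹ * wS h * (dS h i⁻¹ * (wS h * dS h j) * dS h i)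
          = dS h j⁻¹ * (wS h * dS h i⁻¹ * wS h) * (dS h j * dS h i) := by group
        _ = dS h k := by
          rw [wS_conj_dS, inv_inv, dS_mul, dS_mul, dS_mul, ← hi]
          congr 1
          simp [mul_comm, mul_left_comm]
    rwa [e] at h2
  have hB : ∀ g : Cfsg.Sz F m, g • (pInf : Pt) = pInf → g ∈ K := by
    intro g hg
    obtain ⟨a, b, k, rfl⟩ := exists_tS_dS h hg
    exact mul_mem (hT (tS_mem_tGroup h a b)) (hD k)
  obtain ⟨g₀, hg₀K, hg₀⟩ : ∃ g ∈ K, g • (pInf : Pt) = pAff m (0 : F) 0 := by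
    have h0 : ¬((1 : F) = 0 ∧ (0 : F) = 0) := fun e => one_ne_zero e.1
    have hm := hK.conj_mem _ (hT (tS_mem_tGroup h 1 0)) (wS h)
    rw [wS_inv] at hm
    refine ⟨(tS h (0 / ovf m 1 0) (1 / ovf m (1 : F) 0))⁻¹ * (wS h * tS h 1 0 * wS h),
      mul_mem (inv_mem (hT (tS_mem_tGroup h _ _))) hm, ?_⟩
    rw [mul_smul, mul_smul (wS h * tS h 1 0), wS_smul_pInf, mul_smul, tS_smul_p0,
      wS_smul_pAff h h0, inv_smul_eq_iff, tS_smul_p0]
  refine eq_top_iff.2 fun g _ => ?_
  rcases mem_ovoid.1 (smul_ovoid g.2 (pInf_mem (F := F) (m := m))) with e | ⟨a, b, e⟩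
  · exact hB g e
  · have h1 : ((tS h a b * g₀)⁻¹ * g) • (pInf : Pt) = pInf := by
      rw [mul_smul, inv_smul_eq_iff, mul_smul, hg₀, tS_smul_p0]
      exact e
    have h2 : g = tS h a b * g₀ * ((tS h a b * g₀)⁻¹ * g) := by group
    rw [h2]
    exact mul_mem (mul_mem (hT (tS_mem_tGroup h a b)) hg₀K) (hB _ h1)

theorem commutator_eq_top : commutator (Cfsg.Sz F m) = ⊤ := by
  refine eq_top_of_tGroup_le h ?_
  rintro _ ⟨a, b, rfl⟩
  obtain ⟨x, hx0, hx1⟩ := h.exists_ne_zero_one
  set k : Fˣ := Units.mk0 x hx0 with hk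
  have hk1 : (k : F) * sig m (k : F) + 1 ≠ 0 := fun e =>
    hx1 (h.eq_one_of_mul_sig (h.eq_of_add_eq_zero e))
  have hk2 : (k : F) + 1 ≠ 0 := fun e => hx1 (h.eq_of_add_eq_zero e)
  have hc : ∀ a b : F, tS h ((k : F) * a) (k * sig m (k : F) * b) * (tS h a b)⁻¹ ∈
      commutator (Cfsg.Sz F m) := by
    intro a b
    rw [← dS_conj]
    exact Subgroup.commutator_mem_commutator (Subgroup.mem_top _) (Subgroup.mem_top _)
  have h0 : ∀ b : F, tS h 0 b ∈ commutator (Cfsg.Sz F m) := by
    intro b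
    have := hc 0 (b / ((k : F) * sig m (k : F) + 1))
    rw [tS_inv, tS_mul] at this
    simp only [mul_zero, zero_mul, sig_zero, add_zero] at this
    have e : (k : F) * sig m (k : F) * (b / ((k : F) * sig m (k : F) + 1)) +
        b / ((k : F) * sig m (k : F) + 1) = b := by field_simp
    rwa [e] at this
  have h1 := hc (a / ((k : F) + 1)) 0
  rw [tS_inv, tS_mul] at h1
  have e : (k : F) * (a / ((k : F) + 1)) + a / ((k : F) + 1) = a := by field_simp
  rw [e] at h1
  generalize hz : (k : F) * sig m (k : F) * 0 + _ + _ = z at h1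
  have h2 := mul_mem (h0 (b + z)) h1
  rw [tS_mul] at h2
  simp only [sig_zero, zero_mul, add_zero, zero_add] at h2
  rwa [add_assoc, h.add_self, add_zero] at h2

theorem isSimpleGroup : IsSimpleGroup (Cfsg.Sz F m) := by
  have h2 := isTwoPretransitive h
  have hne : (⟨pInf, pInf_mem⟩ : Cfsg.suzukiOvoid F m) ≠ ⟨pAff m 0 0, pAff_mem _ _⟩ :=
    fun e => pAff_ne_pInf _ _ (congrArg Subtype.val e).symm
  have hne' : (⟨pAff m 0 0, pAff_mem _ _⟩ : Cfsg.suzukiOvoid F m) ≠ ⟨pAff m 1 0, pAff_mem _ _⟩ :=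
    fun e => zero_ne_one (pAff_inj (congrArg Subtype.val e)).1
  have hne'' : (⟨pInf, pInf_mem⟩ : Cfsg.suzukiOvoid F m) ≠ ⟨pAff m 1 0, pAff_mem _ _⟩ :=
    fun e => pAff_ne_pInf _ _ (congrArg Subtype.val e).symm
  obtain ⟨P, hPB, -, hPr⟩ := Cfsg.Agent.S0323.result h2 hne hne' hne''
  have : Nontrivial (Cfsg.Sz F m) := ⟨⟨wS h, 1, fun e => pAff_ne_pInf (m := m) (0 : F) 0 (by
    rw [← wS_smul_pInf h, e, one_smul])⟩⟩
  refine Cfsg.Agent.S0319.result P ?_ ?_ (commutator_eq_top h) ?_
  · intro J hJ hJne hrest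
    obtain ⟨s, hs⟩ : ∃ s, P.S = {s} := Set.ncard_eq_one.1 hPr
    obtain ⟨x, hx⟩ := hJne
    obtain ⟨y, hy, hyJ⟩ := hrest
    have hxs : x = s := by simpa [hs] using hJ hx
    have hys : y = s := by simpa [hs] using hy
    exact absurd (hys.trans hxs.symm ▸ hx) hyJ
  · rw [hPB, stabilizer_coe]
    exact borel_isSolvable h
  · rw [eq_bot_iff]
    intro g hg
    rw [Subgroup.mem_bot]
    refine eq_one_of_fix_all h fun p hp => ?_
    obtain ⟨x, hx⟩ := exists_smul_pInf h hp
    have h1 : x⁻¹ * g * (x⁻¹)⁻¹ ∈ P.B := hg x⁻¹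
    rw [hPB, stabilizer_coe, MulAction.mem_stabilizer_iff, inv_inv, mul_smul, mul_smul, hx,
      inv_smul_eq_iff, hx] at h1
    exact h1

theorem preserves_form (g : Cfsg.Sz F m) :
    ((g : SL4) : Matrix (Fin 4) (Fin 4) F).transpose * Cfsg.suzukiForm F *
      ((g : SL4) : Matrix (Fin 4) (Fin 4) F) = Cfsg.suzukiForm F := by
  let K : Subgroup (Cfsg.Sz F m) :=
    { carrier := {g | ((g : SL4) : Matrix (Fin 4) (Fin 4) F).transpose * Cfsg.suzukiForm F *
          ((g : SL4) : Matrix (Fin 4) (Fin 4) F) = Cfsg.suzukiForm F}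
      mul_mem' := fun {x y} hx hy => by
        simp only [Set.mem_setOf_eq, Subgroup.coe_mul, Matrix.SpecialLinearGroup.coe_mul,
          Matrix.transpose_mul] at *
        calc _ = ((y : SL4) : Matrix (Fin 4) (Fin 4) F).transpose *
              (((x : SL4) : Matrix (Fin 4) (Fin 4) F).transpose * Cfsg.suzukiForm F *
                ((x : SL4) : Matrix (Fin 4) (Fin 4) F)) *
              ((y : SL4) : Matrix (Fin 4) (Fin 4) F) := by simp only [Matrix.mul_assoc]
          _ = _ := by rw [hx, hy]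
      one_mem' := by simp
      inv_mem' := fun {x} hx => by
        simp only [Set.mem_setOf_eq] at *
        have h1 : ((x : SL4) : Matrix (Fin 4) (Fin 4) F) * (((x⁻¹ : Cfsg.Sz F m) : SL4) :
            Matrix (Fin 4) (Fin 4) F) = 1 := by
          rw [← Matrix.SpecialLinearGroup.coe_mul, ← Subgroup.coe_mul, mul_inv_cancel]
          rfl
        calc _ = (((x⁻¹ : Cfsg.Sz F m) : SL4) : Matrix (Fin 4) (Fin 4) F).transpose *
              (((x : SL4) : Matrix (Fin 4) (Fin 4) F).transpose * Cfsg.suzukiForm F *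
                ((x : SL4) : Matrix (Fin 4) (Fin 4) F)) *
              (((x⁻¹ : Cfsg.Sz F m) : SL4) : Matrix (Fin 4) (Fin 4) F) := by rw [hx]
          _ = ((((x : SL4) : Matrix (Fin 4) (Fin 4) F) * (((x⁻¹ : Cfsg.Sz F m) : SL4) :
              Matrix (Fin 4) (Fin 4) F))).transpose * Cfsg.suzukiForm F *
              ((((x : SL4) : Matrix (Fin 4) (Fin 4) F) * (((x⁻¹ : Cfsg.Sz F m) : SL4) :
              Matrix (Fin 4) (Fin 4) F))) := by simp only [Matrix.transpose_mul, Matrix.mul_assoc]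
          _ = _ := by rw [h1, Matrix.transpose_one, Matrix.one_mul, Matrix.mul_one] }
  have hT : ∀ a b, tS h a b ∈ K := fun a b => by
    show (tMat m a b : Matrix (Fin 4) (Fin 4) F).transpose * Cfsg.suzukiForm F *
      (tMat m a b : Matrix (Fin 4) (Fin 4) F) = Cfsg.suzukiForm F
    ext i j
    fin_cases i <;> fin_cases j <;>
      simp [tMat, Cfsg.suzukiForm, Matrix.vecMul, dotProduct, Matrix.mul_apply,
        Fin.sum_univ_four, ovf]
    all_goals first
      | linear_combination (a) * h.two_zero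
      | linear_combination (b + sig m a * a) * h.two_zero
      | linear_combination (sig m a) * h.two_zero
      | linear_combination (b) * h.two_zero
      | linear_combination (a * b + sig m a * a ^ 2 + sig m b) * h.two_zero
      | linear_combination (2 * a * b + sig m a * a ^ 2 + sig m b) * h.two_zero
  have hD : ∀ k, dS h k ∈ K := fun k => by
    show (dMat m k : Matrix (Fin 4) (Fin 4) F).transpose * Cfsg.suzukiForm F *
      (dMat m k : Matrix (Fin 4) (Fin 4) F) = Cfsg.suzukiForm F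
    ext i j
    fin_cases i <;> fin_cases j <;>
      simp [dMat, Cfsg.suzukiForm, Matrix.vecMul, dotProduct, Matrix.mul_apply, Fin.sum_univ_four]
    all_goals field_simp
  have hW : wS h ∈ K := by
    show ((wMat : SL4) : Matrix (Fin 4) (Fin 4) F).transpose * Cfsg.suzukiForm F *
      ((wMat : SL4) : Matrix (Fin 4) (Fin 4) F) = Cfsg.suzukiForm F
    ext i j
    fin_cases i <;> fin_cases j <;>
      simp [wMat, Cfsg.suzukiForm, Matrix.vecMul, dotProduct, Matrix.mul_apply, Fin.sum_univ_four]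
  suffices g ∈ K from this
  rcases mem_ovoid.1 (smul_ovoid g.2 (pInf_mem (F := F) (m := m))) with e | ⟨a, b, e⟩
  · obtain ⟨c, d, k, rfl⟩ := exists_tS_dS h e
    exact mul_mem (hT c d) (hD k)
  · have h1 : ((tS h a b * wS h)⁻¹ * g) • (pInf : Pt) = pInf := by
      rw [mul_smul, inv_smul_eq_iff, mul_smul, wS_smul_pInf, tS_smul_p0]
      exact e
    obtain ⟨c, d, k, hk⟩ := exists_tS_dS h h1
    rw [eq_mul_of_inv_mul_eq hk]
    exact mul_mem (mul_mem (hT a b) hW) (mul_mem (hT c d) (hD k))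

theorem ovoid_independent (p : Fin 3 ↪ Cfsg.suzukiOvoid F m) :
    Projectivization.Independent (fun i => (p i : Pt)) := by
  obtain ⟨g, hg0, hg1⟩ := exists_smul_pair h (p 0).2 (p 1).2
    (fun e => absurd (p.injective (Subtype.ext e)) (by decide))
  obtain ⟨x, y, hg2⟩ : ∃ x y, g • (p 2 : Pt) = pAff m x y := by
    rcases mem_ovoid.1 (smul_ovoid g.2 (p 2).2) with e | e
    · exact absurd (p.injective (Subtype.ext (MulAction.injective g (e.trans hg0.symm))))
        (by decide)
    · exact e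
  have hxy : ¬(x = 0 ∧ y = 0) := by
    rintro ⟨rfl, rfl⟩
    exact absurd (p.injective (Subtype.ext (MulAction.injective g (hg2.trans hg1.symm))))
      (by decide)
  have key : Projectivization.Independent
      ![(pInf : Pt), pAff m (0 : F) 0, pAff m x y] := by
    have hnz : ∀ i, (![![1, 0, 0, 0], affVec m 0 0, affVec m x y] : Fin 3 → Fin 4 → F) i ≠ 0 := by
      intro i
      fin_cases i
      exacts [infVec_ne_zero, affVec_ne_zero _ _, affVec_ne_zero _ _]
    have hli : LinearIndependent F (![![1, 0, 0, 0], affVec m 0 0, affVec m x y] :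
        Fin 3 → Fin 4 → F) := by
      rw [Fintype.linearIndependent_iff]
      intro c hc
      have c0 := congrFun hc 0
      have c1 := congrFun hc 1
      have c2 := congrFun hc 2
      have c3 := congrFun hc 3
      simp [Fin.sum_univ_three, affVec, ovf, sig_zero] at c0 c1 c2 c3
      have h2 : c 2 = 0 := by
        by_contra hne
        exact hxy ⟨c2.resolve_left hne, c1.resolve_left hne⟩
      rw [h2] at c0 c3
      intro i
      fin_cases i
      · simpa using c0
      · simpa using c3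
      · exact h2
    have := Projectivization.Independent.mk _ hnz hli
    convert this using 1
    funext i
    fin_cases i <;> rfl
  rw [Projectivization.independent_iff] at key ⊢
  let L : (Fin 4 → F) ≃ₗ[F] (Fin 4 → F) := (g : SL4).toLin'
  have hL : ∀ v, L v = (g : SL4) • v := fun v => rfl
  have hrep : ∀ i, ∃ c : Fˣ, L ((p i : Pt).rep) =
      c • ((![(pInf : Pt), pAff m (0 : F) 0, pAff m x y] : Fin 3 → Pt) i).rep := by
    intro i
    have e : g • (p i : Pt) = (![(pInf : Pt), pAff m (0 : F) 0, pAff m x y] : Fin 3 → Pt) i := by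
      fin_cases i
      exacts [hg0, hg1, hg2]
    conv_lhs at e => rw [← (p i : Pt).mk_rep]
    conv_rhs at e => rw [← Projectivization.mk_rep (![(pInf : Pt), pAff m (0 : F) 0, pAff m x y] i)]
    change (g : SL4) • Projectivization.mk F ((p i : Pt).rep) ((p i : Pt).rep_nonzero) = _ at e
    rw [Projectivization.smul_mk, Projectivization.mk_eq_mk_iff] at e
    obtain ⟨c, hc⟩ := e
    exact ⟨c, hc.symm⟩
  choose c hc using hrep
  have h2 := key.units_smul c
  have h3 : LinearIndependent F (L ∘ fun i => ((p i : Pt)).rep) := by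
    have e : (L ∘ fun i => ((p i : Pt)).rep) = c • (Projectivization.rep ∘
        (![(pInf : Pt), pAff m (0 : F) 0, pAff m x y] : Fin 3 → Pt)) := funext hc
    rw [e]
    exact h2
  exact h3.of_comp L.toLinearMap

theorem isZassenhausGroup : Cfsg.IsZassenhausGroup (Cfsg.Sz F m) (Cfsg.suzukiOvoid F m) := by
  obtain ⟨x, hx0, hx1⟩ := h.exists_ne_zero_one
  have hd : dS h (Units.mk0 x hx0) ≠ 1 := by
    rw [← dS_one h]
    exact fun e => hx1 (congrArg Units.val (dS_injective h e))
  refine ⟨faithfulSMul h, isTwoPretransitive h, ?_, ?_, ?_⟩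
  · intro g a b c hab hbc hac ga gb gc
    exact eq_one_of_three h a.2 b.2 c.2 (fun e => hab (Subtype.ext e))
      (fun e => hbc (Subtype.ext e)) (fun e => hac (Subtype.ext e))
      (congrArg Subtype.val ga) (congrArg Subtype.val gb) (congrArg Subtype.val gc)
  · exact ⟨_, hd, ⟨pInf, pInf_mem⟩, ⟨pAff m 0 0, pAff_mem _ _⟩,
      fun e => pAff_ne_pInf _ _ (congrArg Subtype.val e).symm,
      Subtype.ext (dS_smul_pInf h _), Subtype.ext (dS_smul_p0 h _)⟩
  · intro N hN hpre
    have hs := isSimpleGroup h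
    rcases hs.eq_bot_or_eq_top_of_normal N hN with rfl | rfl
    · exfalso
      obtain ⟨⟨g, hg⟩, he⟩ := hpre.exists_smul_eq (⟨pInf, pInf_mem⟩ : Cfsg.suzukiOvoid F m)
        ⟨pAff m 0 0, pAff_mem _ _⟩
      rw [Subgroup.mem_bot] at hg
      subst hg
      rw [Subgroup.smul_def, one_smul] at he
      exact pAff_ne_pInf _ _ (congrArg Subtype.val he).symm
    · refine ⟨⟨pInf, pInf_mem⟩, fun e => hd ?_⟩
      have h1 : (⟨dS h (Units.mk0 x hx0), Subgroup.mem_top _⟩ : (⊤ : Subgroup (Cfsg.Sz F m))) ∈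
          MulAction.stabilizer (⊤ : Subgroup (Cfsg.Sz F m))
            (⟨pInf, pInf_mem⟩ : Cfsg.suzukiOvoid F m) :=
        Subtype.ext (dS_smul_pInf h _)
      rw [e, Subgroup.mem_bot] at h1
      exact congrArg Subtype.val h1

/-- The two-point stabiliser is the torus. -/
theorem two_point_stabilizer :
    Nonempty (↥(MulAction.stabilizer (Cfsg.Sz F m) (pInf : Pt) ⊓
      MulAction.stabilizer (Cfsg.Sz F m) (Cfsg.suzukiPointZero F)) ≃* Fˣ) := by
  rw [pointZero_eq (m := m)]
  let f : Fˣ →* ↥(MulAction.stabilizer (Cfsg.Sz F m) (pInf : Pt) ⊓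
      MulAction.stabilizer (Cfsg.Sz F m) (pAff m (0 : F) 0)) :=
    (dHom h).codRestrict _ fun k => ⟨dS_smul_pInf h k, dS_smul_p0 h k⟩
  refine ⟨(MulEquiv.ofBijective f ⟨fun k j e => dS_injective h (congrArg Subtype.val e), ?_⟩).symm⟩
  rintro ⟨g, hg1, hg2⟩
  obtain ⟨k, rfl⟩ := exists_dS h hg1 hg2
  exact ⟨k, rfl⟩

end CfsgLib.Suzuki
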