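import Mathlib
import Cfsg.Prelude.Def_LieExceptional
import Cfsg.Agent.Lib.Suzuki.Simple

/-!
Fixed points and centralisers of the translations and torus elements of `Cfsg.Sz F m`; the Sylow
2-subgroup.
-/

set_option autoImplicit false

namespace CfsgLib.Suzuki

open Matrix
open scoped Pointwise

variable {F : Type*} [Field F] [Fintype F] {m : ℕ}

local notation "Pt" => Projectivization F (Fin 4 → F)

variable (h : SzHyp F m)
include h

/-- The torus fixing `∞` and `0`. -/
def torus : Subgroup (Cfsg.Sz F m) := (dHom h).range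

theorem mem_torus {g : Cfsg.Sz F m} : g ∈ torus h ↔ ∃ k, dS h k = g := Iff.rfl

theorem isCyclic_torus : IsCyclic (torus h) :=
  isCyclic_of_surjective (dHom h).rangeRestrict (dHom h).rangeRestrict_surjective

theorem card_torus : Nat.card (torus h) = 2 ^ (2 * m + 1) - 1 := by
  rw [torus, ← Nat.card_congr (MonoidHom.ofInjective (f := dHom h) (dS_injective h)).toEquiv,
    Nat.card_units,
    Nat.card_eq_fintype_card, h.card]

theorem tGroup_le_borel : tGroup h ≤ borel F m := by
  rintro _ ⟨a, b, rfl⟩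
  exact tS_mem_borel h a b

theorem torus_le_borel : torus h ≤ borel F m := by
  rintro _ ⟨k, rfl⟩
  exact dS_mem_borel h k

theorem fix_pInf_of_mem_tGroup {g : Cfsg.Sz F m} (hg : g ∈ tGroup h) : g • (pInf : Pt) = pInf :=
  MulAction.mem_stabilizer_iff.1 (tGroup_le_borel h hg)

/-- A non-trivial translation fixes only infinity. -/
theorem tS_fixed {g : Cfsg.Sz F m} (hg : g ∈ tGroup h) (hne : g ≠ 1) {p : Pt}
    (hp : p ∈ Cfsg.suzukiOvoid F m) (e : g • p = p) : p = pInf := by
  obtain ⟨a, b, rfl⟩ := hg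
  rcases mem_ovoid.1 hp with rfl | ⟨x, y, rfl⟩
  · rfl
  · exfalso
    rw [tS_smul_pAff] at e
    obtain ⟨e1, e2⟩ := pAff_inj e
    have ha : a = 0 := by simpa using e1
    subst ha
    rw [sig_zero, zero_mul, add_zero] at e2
    exact hne ((tS_eq_one h).2 ⟨rfl, by simpa using e2⟩)

/-- A non-trivial torus element fixes only infinity and zero. -/
theorem dS_fixed' {k : Fˣ} (hk : k ≠ 1) {p : Pt} (hp : p ∈ Cfsg.suzukiOvoid F m)
    (e : dS h k • p = p) : p = pInf ∨ p = pAff m (0 : F) 0 := by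
  rcases mem_ovoid.1 hp with rfl | ⟨x, y, rfl⟩
  · exact Or.inl rfl
  · obtain ⟨rfl, rfl⟩ := dS_fixed h hk e
    exact Or.inr rfl

theorem one_add_ne_zero {k : Fˣ} (hk : k ≠ 1) : 1 + (k : F) ≠ 0 := fun e =>
  hk (Units.ext (h.eq_of_add_eq_zero e).symm)

theorem one_add_mul_sig_ne_zero {k : Fˣ} (hk : k ≠ 1) : 1 + (k : F) * sig m (k : F) ≠ 0 := fun e =>
  hk (Units.ext (h.eq_one_of_mul_sig (h.eq_of_add_eq_zero e).symm))

theorem centralizer_tS {g x : Cfsg.Sz F m} (hg : g ∈ tGroup h) (hne : g ≠ 1) (hx : g * x = x * g) :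
    x ∈ tGroup h := by
  have hfix : g • (x • (pInf : Pt)) = x • (pInf : Pt) := by
    rw [← mul_smul, hx, mul_smul, fix_pInf_of_mem_tGroup h hg]
  have hxi : x • (pInf : Pt) = pInf := tS_fixed h hg hne (smul_ovoid x.2 pInf_mem) hfix
  obtain ⟨c, d, k, rfl⟩ := exists_tS_dS h hxi
  obtain ⟨a, b, rfl⟩ := hg
  have h1 : tS h (a + c) (b + d + sig m a * c) * dS h k =
      tS h (c + k * a) (d + k * sig m (k : F) * b + sig m c * (k * a)) * dS h k := by
    rw [← tS_mul, ← tS_mul, ← dS_conj, mul_assoc, hx]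
    group
  obtain ⟨e1, e2, -⟩ := tS_dS_injective h h1
  have hk : k = 1 := by
    by_contra hk
    have ha : a = 0 := by
      have : a * (1 + (k : F)) = 0 := by
        linear_combination e1 + ((k : F) * a) * h.two_zero
      exact (mul_eq_zero.1 this).resolve_right (one_add_ne_zero h hk)
    subst ha
    simp only [sig_zero, zero_mul, mul_zero, add_zero] at e2
    have hb : b = 0 := by
      have : b * (1 + (k : F) * sig m (k : F)) = 0 := by
        linear_combination e2 + ((k : F) * sig m (k : F) * b) * h.two_zero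
      exact (mul_eq_zero.1 this).resolve_right (one_add_mul_sig_ne_zero h hk)
    exact hne ((tS_eq_one h).2 ⟨rfl, hb⟩)
  subst hk
  rw [dS_one, mul_one]
  exact tS_mem_tGroup h c d

theorem centralizer_dS {k : Fˣ} (hk : k ≠ 1) {x : Cfsg.Sz F m} (hx : dS h k * x = x * dS h k) :
    x ∈ torus h := by
  have hfix : ∀ p : Pt, dS h k • p = p → dS h k • (x • p) = x • p := fun p hp => by
    rw [← mul_smul, hx, mul_smul, hp]
  have h1 := dS_fixed' h hk (smul_ovoid x.2 pInf_mem) (hfix _ (dS_smul_pInf h k))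
  have h2 := dS_fixed' h hk (smul_ovoid x.2 (pAff_mem 0 0)) (hfix _ (dS_smul_p0 h k))
  change x • (pInf : Pt) = pInf ∨ x • (pInf : Pt) = pAff m (0 : F) 0 at h1
  change x • pAff m (0 : F) 0 = pInf ∨ x • pAff m (0 : F) 0 = pAff m (0 : F) 0 at h2
  rcases h1 with h1 | h1
  · rcases h2 with h2 | h2
    · exact absurd (MulAction.injective x (h2.trans h1.symm)) (pAff_ne_pInf 0 0)
    · obtain ⟨j, rfl⟩ := exists_dS h h1 h2
      exact ⟨j, rfl⟩
  · exfalso
    rcases h2 with h2 | h2
    · obtain ⟨j, hj⟩ := exists_dS h (g := wS h * x)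
        (by rw [mul_smul, h1, wS_smul_p0]) (by rw [mul_smul, h2, wS_smul_pInf])
      have hxe : x = wS h * dS h j := by rw [← hj, ← mul_assoc, wS_mul_self, one_mul]
      subst hxe
      have e : dS h k * (wS h * dS h j) = wS h * dS h k⁻¹ * dS h j := by
        rw [← wS_conj_dS]
        simp only [← mul_assoc, wS_mul_self, one_mul]
      rw [e, mul_assoc, mul_assoc, dS_mul, dS_mul] at hx
      have h3 : k⁻¹ * j = j * k := dS_injective h (mul_left_cancel hx)
      rw [mul_comm j k, mul_left_inj, inv_eq_iff_mul_eq_one] at h3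
      apply hk
      apply Units.ext
      apply h.pow_sq_inj
      rw [sq, ← Units.val_mul, h3, Units.val_one, one_pow]
    · exact absurd (MulAction.injective x (h2.trans h1.symm)) (pAff_ne_pInf 0 0)

/-- An element of the Borel subgroup outside the translations is conjugate to a torus element. -/
theorem borel_conj {g : Cfsg.Sz F m} (hg : g • (pInf : Pt) = pInf) :
    g ∈ tGroup h ∨ ∃ x k, k ≠ 1 ∧ g = x * dS h k * x⁻¹ := by
  obtain ⟨a, b, k, rfl⟩ := exists_tS_dS h hg
  by_cases hk : k = 1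
  · left
    subst hk
    rw [dS_one, mul_one]
    exact tS_mem_tGroup h a b
  · right
    set c := a / (1 + (k : F)) with hc
    set d := (b + sig m a * ((k : F) * c)) / (1 + (k : F) * sig m (k : F)) with hd
    refine ⟨tS h c d, k, hk, ?_⟩
    have h1 := one_add_ne_zero h hk
    have h2 := one_add_mul_sig_ne_zero h hk
    rw [eq_mul_inv_iff_mul_eq, mul_assoc,
      show dS h k * tS h c d = tS h ((k : F) * c) (k * sig m (k : F) * d) * dS h k by
        rw [← dS_conj]; group, ← mul_assoc, tS_mul]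
    congr 2
    · have : c * (1 + (k : F)) = a := by rw [hc]; field_simp
      linear_combination -this + c * h.two_zero - c * h.two_zero + ((k : F) * c) * h.two_zero
    · have : d * (1 + (k : F) * sig m (k : F)) = b + sig m a * ((k : F) * c) := by
        rw [hd]; field_simp
      linear_combination -this + ((k : F) * sig m (k : F) * d) * h.two_zero

/-- `T` is a Sylow 2-subgroup. -/
def tSylow : Sylow 2 (Cfsg.Sz F m) where
  toSubgroup := tGroup h
  isPGroup' := isPGroup_tGroup h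
  is_maximal' := by
    intro Q hQ hle
    refine le_antisymm (fun x hx => ?_) hle
    have := Fact.mk Nat.prime_two
    have hu : tS h 0 1 ≠ 1 := fun e => one_ne_zero ((tS_eq_one h).1 e).2
    have huQ : tS h 0 1 ∈ Q := hle (tS_mem_tGroup h 0 1)
    have : Nontrivial Q := ⟨⟨⟨tS h 0 1, huQ⟩, 1, fun e => hu (congrArg Subtype.val e)⟩⟩
    have hc := hQ.center_nontrivial
    obtain ⟨⟨z, hz⟩, hz1⟩ := exists_ne (1 : Subgroup.center Q)
    rw [Subgroup.mem_center_iff] at hz
    have hzT : (z : Cfsg.Sz F m) ∈ tGroup h :=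
      centralizer_tS h (tS_mem_tGroup h 0 1) hu (congrArg Subtype.val (hz ⟨_, huQ⟩))
    exact centralizer_tS h hzT (fun e => hz1 (Subtype.ext (Subtype.ext e)))
      (congrArg Subtype.val (hz ⟨x, hx⟩)).symm

theorem exists_map_tGroup (P : Sylow 2 (Cfsg.Sz F m)) :
    ∃ x : Cfsg.Sz F m, (P : Subgroup (Cfsg.Sz F m)) = (tGroup h).map (MulAut.conj x).toMonoidHom := by
  have := Fact.mk Nat.prime_two
  obtain ⟨x, hx⟩ := MulAction.exists_smul_eq (Cfsg.Sz F m) (tSylow h) P
  exact ⟨x, by rw [← hx]; rfl⟩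

omit h in
theorem mem_map_conj {G : Type*} [Group G] {H : Subgroup G} {x g : G} :
    g ∈ H.map (MulAut.conj x).toMonoidHom ↔ x⁻¹ * g * x ∈ H := by
  rw [Subgroup.mem_map_equiv, MulAut.conj_symm_apply]

omit h in
theorem conj_fix {g x : Cfsg.Sz F m} {p : Pt} :
    (x⁻¹ * g * x) • p = p ↔ g • (x • p) = x • p := by
  rw [mul_smul, mul_smul, inv_smul_eq_iff]

/-- A `p`-subgroup with `p` prime not dividing `q² + 1` fixes a point. -/
theorem exists_conj_borel {p : ℕ} [Fact p.Prime] {H : Subgroup (Cfsg.Sz F m)} (hH : IsPGroup p H)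
    (hp : ¬ p ∣ (2 ^ (2 * m + 1)) ^ 2 + 1) :
    ∃ x : Cfsg.Sz F m, ∀ g ∈ H, (x⁻¹ * g * x) • (pInf : Pt) = pInf := by
  obtain ⟨⟨q, hq⟩, hqf⟩ := hH.nonempty_fixed_point_of_prime_not_dvd_card
    (Cfsg.suzukiOvoid F m) (by rwa [ovoid_card, h.card])
  obtain ⟨x, hx⟩ := exists_smul_pInf h hq
  refine ⟨x, fun g hg => conj_fix.2 ?_⟩
  rw [hx]
  exact congrArg Subtype.val (hqf ⟨g, hg⟩)

/-- Non-identity elements with a fixed point are conjugate to a translation or a torus element. -/
theorem exists_normal_form {g : Cfsg.Sz F m} {p : Pt} (hp : p ∈ Cfsg.suzukiOvoid F m)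
    (e : g • p = p) :
    ∃ x : Cfsg.Sz F m, x⁻¹ * g * x ∈ tGroup h ∨ ∃ k, k ≠ 1 ∧ x⁻¹ * g * x = dS h k := by
  obtain ⟨x, hx⟩ := exists_smul_pInf h hp
  rcases borel_conj h (conj_fix.2 (show g • (x • (pInf : Pt)) = x • pInf by rw [hx, e])) with
    h1 | ⟨y, k, hk, hy⟩
  · exact ⟨x, Or.inl h1⟩
  · refine ⟨x * y, Or.inr ⟨k, hk, ?_⟩⟩
    calc (x * y)⁻¹ * g * (x * y) = y⁻¹ * (x⁻¹ * g * x) * y := by group
      _ = dS h k := by rw [hy]; group

theorem torus_nilpotent : Group.IsNilpotent (torus h) := by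
  have := isCyclic_torus h
  letI : CommGroup (torus h) := IsCyclic.commGroup
  infer_instance

theorem centralizer_fix {g : Cfsg.Sz F m} (hne : g ≠ 1) {p : Pt} (hp : p ∈ Cfsg.suzukiOvoid F m)
    (e : g • p = p) :
    ∃ (x : Cfsg.Sz F m) (A : Subgroup (Cfsg.Sz F m)), (A = tGroup h ∨ A = torus h) ∧
      x⁻¹ * g * x ∈ A ∧ Subgroup.centralizer {g} ≤ A.map (MulAut.conj x).toMonoidHom := by
  obtain ⟨x, hx⟩ := exists_normal_form h hp e
  have hconj : ∀ y : Cfsg.Sz F m, y ∈ Subgroup.centralizer {g} →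
      (x⁻¹ * g * x) * (x⁻¹ * y * x) = (x⁻¹ * y * x) * (x⁻¹ * g * x) := by
    intro y hy
    rw [Subgroup.mem_centralizer_singleton_iff] at hy
    calc (x⁻¹ * g * x) * (x⁻¹ * y * x) = x⁻¹ * (g * y) * x := by group
      _ = x⁻¹ * (y * g) * x := by rw [hy]
      _ = _ := by group
  rcases hx with hx | ⟨k, hk, hx⟩
  · refine ⟨x, tGroup h, Or.inl rfl, hx, fun y hy => mem_map_conj.2 ?_⟩
    have hne' : x⁻¹ * g * x ≠ 1 := fun e => hne (by
      calc g = x * (x⁻¹ * g * x) * x⁻¹ := by group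
        _ = 1 := by rw [e]; group)
    exact centralizer_tS h hx hne' (hconj y hy)
  · refine ⟨x, torus h, Or.inr rfl, hx ▸ ⟨k, rfl⟩, fun y hy => mem_map_conj.2 ?_⟩
    exact centralizer_dS h hk (hx ▸ hconj y hy)

theorem centralizer_fix_nilpotent {g : Cfsg.Sz F m} (hne : g ≠ 1) {p : Pt}
    (hp : p ∈ Cfsg.suzukiOvoid F m) (e : g • p = p) :
    Group.IsNilpotent (Subgroup.centralizer {g}) := by
  obtain ⟨x, A, hA, -, hle⟩ := centralizer_fix h hne hp e
  have hAn : Group.IsNilpotent A := by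
    have := Fact.mk Nat.prime_two
    rcases hA with rfl | rfl
    · exact (isPGroup_tGroup h).isNilpotent
    · exact torus_nilpotent h
  have hmap : Group.IsNilpotent (A.map (MulAut.conj x).toMonoidHom) :=
    Group.nilpotent_of_mulEquiv (A.equivMapOfInjective _ (MulAut.conj x).injective)
  have h2 : Group.IsNilpotent
      ((Subgroup.centralizer {g}).subgroupOf (A.map (MulAut.conj x).toMonoidHom)) := inferInstance
  exact Group.nilpotent_of_mulEquiv (Subgroup.subgroupOfEquivOfLe hle)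

end CfsgLib.Suzuki
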