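import Mathlib

/-!
Elements of prime order `p` of `SL₄(F)` with `p ∣ q² + 1`: their centraliser in `M₄(F)` is a field.
-/

set_option autoImplicit false

namespace CfsgLib.Suzuki

open Matrix

variable {F : Type*} [Field F] [Fintype F]

theorem pow_ne_one_of_sq_eq_neg_one {p : ℕ} [Fact p.Prime] (hp : p ≠ 2) {a : ZMod p}
    (ha : a ^ 2 = -1) {n : ℕ} (hn : 1 ≤ n) (hn' : n ≤ 3) : a ^ n ≠ 1 := by
  have h2 : (2 : ZMod p) ≠ 0 := by
    intro e
    have : ((2 : ℕ) : ZMod p) = 0 := e
    rw [ZMod.natCast_eq_zero_iff, Nat.prime_dvd_prime_iff_eq (Fact.out) Nat.prime_two] at this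
    exact hp this
  intro e
  interval_cases n
  · exact h2 (by rw [pow_one] at e; rw [e] at ha; linear_combination ha)
  · exact h2 (by linear_combination ha - e)
  · have h1 : a = -1 := by linear_combination -e + a * ha
    exact h2 (by rw [h1] at ha; linear_combination ha)

/-- If a `p`-element acts linearly on a space of size `q^d`, `d ≤ 4`, fixing only zero, then `d ∈ {0,4}`. -/
theorem dim_eq_of_modEq {p : ℕ} [Fact p.Prime] (hp : p ≠ 2) (hpq : p ∣ Fintype.card F ^ 2 + 1)
    {d e : ℕ} (hd : d ≤ 4) (he : e ≤ d) (h : Fintype.card F ^ d ≡ Fintype.card F ^ e [MOD p]) :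
    d = e ∨ (d = 4 ∧ e = 0) := by
  have ha : (Fintype.card F : ZMod p) ^ 2 = -1 := by
    have : ((Fintype.card F ^ 2 + 1 : ℕ) : ZMod p) = 0 := (ZMod.natCast_eq_zero_iff _ _).2 hpq
    push_cast at this
    linear_combination this
  have ha0 : (Fintype.card F : ZMod p) ≠ 0 := fun e => by
    rw [e] at ha
    simp at ha
  obtain ⟨n, rfl⟩ := Nat.exists_eq_add_of_le he
  have h1 : (Fintype.card F : ZMod p) ^ n = 1 := by
    have h2 : ((Fintype.card F ^ (e + n) : ℕ) : ZMod p) = ((Fintype.card F ^ e : ℕ) : ZMod p) :=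
      (ZMod.natCast_eq_natCast_iff _ _ _).2 h
    push_cast at h2
    rw [pow_add] at h2
    exact mul_left_cancel₀ (pow_ne_zero e ha0) (h2.trans (mul_one _).symm)
  by_cases hn : 1 ≤ n ∧ n ≤ 3
  · exact absurd h1 (pow_ne_one_of_sq_eq_neg_one hp ha hn.1 hn.2)
  · omega

variable (g : SpecialLinearGroup (Fin 4) F)

/-- The centraliser of a matrix as a subalgebra. -/
abbrev matCent : Subalgebra F (Matrix (Fin 4) (Fin 4) F) :=
  Subalgebra.centralizer F {(g : Matrix (Fin 4) (Fin 4) F)}

theorem comm_zpowers {X : Matrix (Fin 4) (Fin 4) F}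
    (hX : (g : Matrix (Fin 4) (Fin 4) F) * X = X * g) :
    ∀ k ∈ Subgroup.zpowers g, (k : Matrix (Fin 4) (Fin 4) F) * X = X * k := by
  let K : Subgroup (SpecialLinearGroup (Fin 4) F) :=
    { carrier := {k | (k : Matrix (Fin 4) (Fin 4) F) * X = X * k}
      mul_mem' := fun {a b} ha hb => by
        simp only [Set.mem_ofPred_eq, Matrix.SpecialLinearGroup.coe_mul] at *
        rw [Matrix.mul_assoc, hb, ← Matrix.mul_assoc, ha, Matrix.mul_assoc]
      one_mem' := by simp
      inv_mem' := fun {a} ha => by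
        simp only [Set.mem_ofPred_eq] at *
        have h1 : ((a⁻¹ : SpecialLinearGroup (Fin 4) F) : Matrix (Fin 4) (Fin 4) F) * a = 1 := by
          rw [← Matrix.SpecialLinearGroup.coe_mul, inv_mul_cancel, Matrix.SpecialLinearGroup.coe_one]
        have h2 : (a : Matrix (Fin 4) (Fin 4) F) *
            ((a⁻¹ : SpecialLinearGroup (Fin 4) F) : Matrix (Fin 4) (Fin 4) F) = 1 := by
          rw [← Matrix.SpecialLinearGroup.coe_mul, mul_inv_cancel, Matrix.SpecialLinearGroup.coe_one]
        calc _ = ((a⁻¹ : SpecialLinearGroup (Fin 4) F) : Matrix (Fin 4) (Fin 4) F) *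
              (X * a) * ((a⁻¹ : SpecialLinearGroup (Fin 4) F) : Matrix (Fin 4) (Fin 4) F) := by
              rw [Matrix.mul_assoc, Matrix.mul_assoc X, h2, Matrix.mul_one]
          _ = _ := by rw [← ha, ← Matrix.mul_assoc, h1, Matrix.one_mul] }
  intro k hk
  exact (Subgroup.zpowers_le.2 (show g ∈ K from hX)) hk

variable {p : ℕ} [Fact p.Prime] (hp : p ≠ 2) (hpq : p ∣ Fintype.card F ^ 2 + 1) (hg : orderOf g = p)
include hp hpq hg

theorem fixed_eq_zero {v : Fin 4 → F} (hv : g • v = v) : v = 0 := by
  let E : Submodule F (Fin 4 → F) :=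
    LinearMap.ker ((g : Matrix (Fin 4) (Fin 4) F).mulVecLin - LinearMap.id)
  have hE : ∀ w, w ∈ E ↔ g • w = w := fun w => by
    simp only [E, LinearMap.mem_ker, LinearMap.sub_apply, Matrix.mulVecLin_apply, LinearMap.id_coe,
      id_eq, sub_eq_zero]
    rfl
  have hP : IsPGroup p (Subgroup.zpowers g) :=
    IsPGroup.of_card (n := 1) (by rw [Nat.card_zpowers, hg, pow_one])
  have hmod := hP.card_modEq_card_fixedPoints (Fin 4 → F)
  have hfix : MulAction.fixedPoints (Subgroup.zpowers g) (Fin 4 → F) = (E : Set (Fin 4 → F)) := by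
    ext w
    rw [SetLike.mem_coe, hE, MulAction.mem_fixedPoints]
    refine ⟨fun hw => hw ⟨g, Subgroup.mem_zpowers g⟩, fun hw k => ?_⟩
    exact (Subgroup.zpowers_le.2 (show g ∈ MulAction.stabilizer _ w from hw)) k.2
  rw [hfix] at hmod
  have hcardE : Nat.card (E : Set (Fin 4 → F)) = Fintype.card F ^ Module.finrank F E := by
    rw [← Nat.card_eq_fintype_card]
    exact Module.natCard_eq_pow_finrank
  have hcard : Nat.card (Fin 4 → F) = Fintype.card F ^ 4 := by simp
  rw [hcardE, hcard] at hmod
  have hle : Module.finrank F E ≤ 4 := (Submodule.finrank_le E).trans_eq (by simp)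
  rcases dim_eq_of_modEq hp hpq le_rfl hle hmod with h4 | ⟨-, h0⟩
  · exfalso
    have htop : E = ⊤ := Submodule.eq_top_of_finrank_eq (by simp [← h4])
    have h1 : g = 1 := by
      apply Matrix.SpecialLinearGroup.ext
      intro i j
      have := congrFun ((hE (Pi.single j 1)).1 (htop ▸ trivial)) i
      change ((g : Matrix (Fin 4) (Fin 4) F) *ᵥ Pi.single j 1) i = _ at this
      rw [Matrix.mulVec_single_one] at this
      simpa [Matrix.one_apply, Pi.single_apply, eq_comm] using this
    rw [h1, orderOf_one] at hg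
    exact (Fact.out : p.Prime).one_lt.ne hg
  · have : E = ⊥ := Submodule.finrank_eq_zero.1 h0
    exact (Submodule.eq_bot_iff E).1 this v ((hE v).2 hv)

theorem ker_eq_bot {X : Matrix (Fin 4) (Fin 4) F}
    (hX : (g : Matrix (Fin 4) (Fin 4) F) * X = X * g) (hne : X ≠ 0) {v : Fin 4 → F}
    (hv : X *ᵥ v = 0) : v = 0 := by
  let W : Submodule F (Fin 4 → F) := LinearMap.ker X.mulVecLin
  have hW : ∀ w, w ∈ W ↔ X *ᵥ w = 0 := fun w => Iff.rfl
  have hinv : ∀ (k : Subgroup.zpowers g) (w : W), (k : SpecialLinearGroup (Fin 4) F) • (w : Fin 4 → F) ∈ W := by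
    intro k w
    rw [hW]
    show X *ᵥ ((k : SpecialLinearGroup (Fin 4) F) : Matrix (Fin 4) (Fin 4) F) *ᵥ (w : Fin 4 → F) = 0
    rw [Matrix.mulVec_mulVec, ← comm_zpowers g hX k k.2, ← Matrix.mulVec_mulVec, (hW _).1 w.2,
      Matrix.mulVec_zero]
  letI act : MulAction (Subgroup.zpowers g) W :=
    { smul := fun k w => ⟨(k : SpecialLinearGroup (Fin 4) F) • (w : Fin 4 → F), hinv k w⟩
      one_smul := fun w => Subtype.ext (one_smul _ _)
      mul_smul := fun k l w => Subtype.ext (mul_smul _ _ _) }
  have hP : IsPGroup p (Subgroup.zpowers g) :=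
    IsPGroup.of_card (n := 1) (by rw [Nat.card_zpowers, hg, pow_one])
  have hmod := hP.card_modEq_card_fixedPoints W
  have hfix : MulAction.fixedPoints (Subgroup.zpowers g) W = {0} := by
    ext w
    rw [MulAction.mem_fixedPoints, Set.mem_singleton_iff]
    constructor
    · intro hw
      exact Subtype.ext (fixed_eq_zero g hp hpq hg
        (congrArg Subtype.val (hw ⟨g, Subgroup.mem_zpowers g⟩)))
    · rintro rfl k
      exact Subtype.ext (smul_zero _)
  have hcardW : Nat.card W = Fintype.card F ^ Module.finrank F W := by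
    rw [← Nat.card_eq_fintype_card]
    exact Module.natCard_eq_pow_finrank
  rw [hfix, hcardW, Nat.card_unique, ← pow_zero (Fintype.card F)] at hmod
  have hle : Module.finrank F W ≤ 4 := (Submodule.finrank_le W).trans_eq (by simp)
  rcases dim_eq_of_modEq hp hpq hle (Nat.zero_le _) hmod with h0 | ⟨h4, -⟩
  · exact (Submodule.eq_bot_iff W).1 (Submodule.finrank_eq_zero.1 h0) v hv
  · exfalso
    have htop : W = ⊤ := Submodule.eq_top_of_finrank_eq (by simp [h4])
    apply hne
    ext i j
    have := congrFun ((hW (Pi.single j 1)).1 (htop ▸ trivial)) i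
    rw [Matrix.mulVec_single_one] at this
    simpa using this

theorem matCent_noZeroDivisors : NoZeroDivisors (matCent g) := by
  refine ⟨fun {x y} hxy => ?_⟩
  by_cases hx : x = 0
  · exact Or.inl hx
  · right
    apply Subtype.ext
    have hX := (Subalgebra.mem_centralizer_iff F).1 x.2 _ (Set.mem_singleton _)
    have hxy' : (x : Matrix (Fin 4) (Fin 4) F) * (y : Matrix (Fin 4) (Fin 4) F) = 0 :=
      congrArg Subtype.val hxy
    ext i j
    have hz := ker_eq_bot g hp hpq hg hX (fun e => hx (Subtype.ext e))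
      (v := (y : Matrix (Fin 4) (Fin 4) F) *ᵥ Pi.single j 1) (by
        rw [Matrix.mulVec_mulVec, hxy', Matrix.zero_mulVec])
    rw [Matrix.mulVec_single_one] at hz
    simpa using congrFun hz i

theorem matCent_isField : IsField (matCent g) := by
  have := matCent_noZeroDivisors g hp hpq hg
  have : IsDomain (matCent g) := NoZeroDivisors.to_isDomain _
  exact Finite.isDomain_to_isField _

theorem matCent_comm {X Y : Matrix (Fin 4) (Fin 4) F}
    (hX : (g : Matrix (Fin 4) (Fin 4) F) * X = X * g)
    (hY : (g : Matrix (Fin 4) (Fin 4) F) * Y = Y * g) : X * Y = Y * X :=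
  congrArg Subtype.val ((matCent_isField g hp hpq hg).mul_comm
    ⟨X, (Subalgebra.mem_centralizer_iff F).2 fun _ hz => by rw [Set.mem_singleton_iff.1 hz]; exact hX⟩
    ⟨Y, (Subalgebra.mem_centralizer_iff F).2 fun _ hz => by rw [Set.mem_singleton_iff.1 hz]; exact hY⟩)

theorem isCyclic_centralizer {H : Subgroup (SpecialLinearGroup (Fin 4) F)}
    (hH : ∀ x ∈ H, g * x = x * g) : IsCyclic H := by
  letI := (matCent_isField g hp hpq hg).toField
  let f : H →* matCent g :=
    { toFun := fun x => ⟨((x : SpecialLinearGroup (Fin 4) F) : Matrix (Fin 4) (Fin 4) F),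
        (Subalgebra.mem_centralizer_iff F).2 fun _ hz => by
          rw [Set.mem_singleton_iff.1 hz, ← Matrix.SpecialLinearGroup.coe_mul, hH x x.2,
            Matrix.SpecialLinearGroup.coe_mul]⟩
      map_one' := Subtype.ext rfl
      map_mul' := fun x y => Subtype.ext rfl }
  exact isCyclic_of_subgroup_isDomain f fun x y e => by
    apply Subtype.ext
    apply Subtype.ext
    exact congrArg (fun z : matCent g => (z : Matrix (Fin 4) (Fin 4) F)) e

theorem card_roots_le {f : Polynomial F} (hf : f ≠ 0) :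
    Nat.card {X : matCent g // Polynomial.aeval X f = 0} ≤ f.natDegree := by
  classical
  letI := (matCent_isField g hp hpq hg).toField
  have hinj : Function.Injective (algebraMap F (matCent g)) := (algebraMap F (matCent g)).injective
  have hne : f.map (algebraMap F (matCent g)) ≠ 0 :=
    (Polynomial.map_ne_zero_iff hinj).2 hf
  calc Nat.card {X : matCent g // Polynomial.aeval X f = 0}
      = Nat.card ((f.map (algebraMap F (matCent g))).roots.toFinset) := by
        refine Nat.card_congr (Equiv.subtypeEquivRight fun X => ?_)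
        rw [Multiset.mem_toFinset, Polynomial.mem_roots hne, Polynomial.IsRoot.def,
          Polynomial.eval_map_algebraMap]
    _ ≤ _ := by
        rw [Nat.card_eq_finsetCard]
        exact (Multiset.toFinset_card_le _).trans
          ((Polynomial.card_roots' _).trans (Polynomial.natDegree_map_le))

end CfsgLib.Suzuki
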