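import Mathlib
import Cfsg.Prelude.Def_LieExceptional
import Cfsg.Agent.Lib.Suzuki.Centralizer
import Cfsg.Agent.Lib.Suzuki.Singer

/-!
Sylow subgroups of `Cfsg.Sz F m` and the CN property.
-/

set_option autoImplicit false

namespace CfsgLib.Suzuki

open Matrix
open scoped Pointwise commutatorElement

variable {F : Type*} [Field F] [Fintype F] {m : ℕ}

local notation "SL4" => SpecialLinearGroup (Fin 4) F

theorem coprime_sq_add_one {n : ℕ} (hn : 1 ≤ n) :
    Nat.Coprime ((2 ^ n) ^ 2 + 1) ((2 ^ n) ^ 2 * (2 ^ n - 1)) := by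
  have heven : Even (2 ^ n) := (Nat.even_pow.2 ⟨even_two, by omega⟩)
  refine Nat.Coprime.mul_right ?_ ?_
  · exact ((Nat.coprime_self_add_left (m := (2 ^ n) ^ 2) (n := 1)).2 (Nat.coprime_one_left _))
  · refine Nat.coprime_of_dvd' fun p hp h1 h2 => ?_
    have hle : 1 ≤ 2 ^ n := Nat.one_le_two_pow
    have h3 : p ∣ (2 ^ n) ^ 2 - 1 := h2.trans (by
      have := Nat.sq_sub_sq (2 ^ n) 1
      rw [one_pow] at this
      exact this ▸ Dvd.intro_left _ rfl)
    have h4 : p ∣ 2 := by
      have := Nat.dvd_sub h1 h3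
      rwa [show (2 ^ n) ^ 2 + 1 - ((2 ^ n) ^ 2 - 1) = 2 by
        have : 1 ≤ (2 ^ n) ^ 2 := Nat.one_le_pow _ _ (by omega)
        omega] at this
    obtain rfl := (Nat.prime_dvd_prime_iff_eq hp Nat.prime_two).1 h4
    have : Even ((2 ^ n) ^ 2) := Nat.even_pow.2 ⟨heven, two_ne_zero⟩
    exact absurd (even_iff_two_dvd.2 h1) (by simp [Nat.even_add_one, this])

variable (h : SzHyp F m)
include h

local notation "Q₁" => (2 ^ (2 * m + 1)) ^ 2 + 1

theorem coprime_Q : Nat.Coprime Q₁ ((2 ^ (2 * m + 1)) ^ 2 * (2 ^ (2 * m + 1) - 1)) :=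
  coprime_sq_add_one (n := 2 * m + 1) (by omega)

theorem ne_two_of_dvd {p : ℕ} (hp : p ∣ Q₁) : p ≠ 2 := by
  rintro rfl
  have h2 : 2 ∣ (2 ^ (2 * m + 1)) ^ 2 := dvd_pow (dvd_pow_self 2 (by omega)) two_ne_zero
  have := Nat.dvd_sub hp h2
  rw [Nat.add_sub_cancel_left] at this
  omega

/-- An element of prime order dividing `q² + 1` fixes no point of the ovoid. -/
theorem fix_false {g : Cfsg.Sz F m} (hne : g ≠ 1) (hd : orderOf g ∣ Q₁)
    {pt : Projectivization F (Fin 4 → F)} (hp : pt ∈ Cfsg.suzukiOvoid F m) (e : g • pt = pt) :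
    False := by
  obtain ⟨x, hx⟩ := exists_smul_pInf h hp
  have hmem : x⁻¹ * g * x ∈ borel F m := conj_fix.2 (by rw [hx, e])
  have h1 := (borel F m).orderOf_dvd_natCard hmem
  rw [card_stab h, show x⁻¹ * g * x = MulAut.conj x⁻¹ g by simp,
    MulEquiv.orderOf_eq] at h1
  exact hne (orderOf_eq_one_iff.1 (Nat.dvd_one.1 ((coprime_Q h) ▸ Nat.dvd_gcd hd h1)))

theorem centralizer_exc {v : Cfsg.Sz F m} {p : ℕ} [Fact p.Prime] (hv : orderOf v = p)
    (hp : p ∣ Q₁) : IsCyclic (Subgroup.centralizer {v}) := by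
  have hv' : orderOf (v : SL4) = p := by rw [Subgroup.orderOf_coe, hv]
  have := isCyclic_centralizer (v : SL4) (ne_two_of_dvd h hp) (by rw [h.card]; exact hp) hv'
    (H := (Subgroup.centralizer {v}).map (Cfsg.Sz F m).subtype) (by
      rintro _ ⟨y, hy, rfl⟩
      exact congrArg Subtype.val (Subgroup.mem_centralizer_singleton_iff.1 hy).symm)
  exact ((Subgroup.centralizer {v}).equivMapOfInjective (Cfsg.Sz F m).subtype
    Subtype.val_injective).isCyclic.2 this

theorem exists_fix_of_prime {g : Cfsg.Sz F m} {p : ℕ} [Fact p.Prime] (hg : orderOf g = p)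
    (hp : ¬ p ∣ Q₁) :
    ∃ pt ∈ Cfsg.suzukiOvoid F m, g • pt = pt := by
  obtain ⟨x, hx⟩ := exists_conj_borel h (H := Subgroup.zpowers g)
    (IsPGroup.of_card (n := 1) (by rw [Nat.card_zpowers, hg, pow_one])) hp
  refine ⟨x • pInf, smul_ovoid x.2 pInf_mem, conj_fix.1 (hx g (Subgroup.mem_zpowers g))⟩

theorem exists_prime_pow {g : Cfsg.Sz F m} (hg : g ≠ 1) :
    ∃ (p k : ℕ), p.Prime ∧ orderOf (g ^ k) = p := by
  obtain ⟨p, hp, hd⟩ := Nat.exists_prime_and_dvd (fun e => hg (orderOf_eq_one_iff.1 e))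
  exact ⟨p, orderOf g / p, hp, orderOf_pow_orderOf_div (orderOf_pos g).ne' hd⟩

omit h in
theorem centralizer_le_pow {G : Type*} [Group G] (g : G) (k : ℕ) :
    Subgroup.centralizer {g} ≤ Subgroup.centralizer {g ^ k} := by
  intro y hy
  rw [Subgroup.mem_centralizer_singleton_iff] at *
  exact (Commute.pow_right hy k).eq

theorem isCN : Cfsg.IsCNGroup (Cfsg.Sz F m) := by
  intro g hg
  obtain ⟨p, k, hp, hv⟩ := exists_prime_pow h hg
  have := Fact.mk hp
  have hn : Group.IsNilpotent (Subgroup.centralizer {g ^ k}) := by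
    by_cases hd : p ∣ Q₁
    · have := centralizer_exc h hv hd
      letI : CommGroup (Subgroup.centralizer {g ^ k}) := IsCyclic.commGroup
      infer_instance
    · obtain ⟨pt, hpt, he⟩ := exists_fix_of_prime h hv hd
      exact centralizer_fix_nilpotent h (fun e => hp.one_lt.ne (by rw [← hv, e, orderOf_one]))
        hpt he
  have h2 : Group.IsNilpotent
      ((Subgroup.centralizer {g}).subgroupOf (Subgroup.centralizer {g ^ k})) := inferInstance
  exact Group.nilpotent_of_mulEquiv (Subgroup.subgroupOfEquivOfLe (centralizer_le_pow g k))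

theorem sylow_odd_cyclic {p : ℕ} [Fact p.Prime] (hp : p ≠ 2) (P : Sylow p (Cfsg.Sz F m)) :
    IsCyclic P := by
  by_cases hd : p ∣ Q₁
  · rcases subsingleton_or_nontrivial P with h1 | h1
    · exact isCyclic_of_subsingleton
    have := P.2.center_nontrivial
    have hdvd : p ∣ Nat.card (Subgroup.center P) := by
      obtain ⟨k, hk⟩ := IsPGroup.iff_card.1 (P.2.to_subgroup (Subgroup.center P))
      rcases k with _ | k
      · rw [pow_zero] at hk
        exact absurd hk (Finite.one_lt_card).ne'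
      · rw [hk]; exact dvd_pow_self p k.succ_ne_zero
    obtain ⟨z, hz⟩ := exists_prime_orderOf_dvd_card' p hdvd
    have hz' : orderOf ((z : P) : Cfsg.Sz F m) = p := by
      rw [Subgroup.orderOf_coe, Subgroup.orderOf_coe, hz]
    have hle : (P : Subgroup (Cfsg.Sz F m)) ≤ Subgroup.centralizer {((z : P) : Cfsg.Sz F m)} := by
      intro y hy
      rw [Subgroup.mem_centralizer_singleton_iff]
      exact congrArg Subtype.val ((Subgroup.mem_center_iff.1 z.2) ⟨y, hy⟩)
    have := centralizer_exc h hz' hd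
    exact isCyclic_of_injective (Subgroup.inclusion hle) (Subgroup.inclusion_injective hle)
  · obtain ⟨x, hx⟩ := exists_conj_borel h P.2 hd
    let f : P →* borel F m :=
      { toFun := fun g => ⟨x⁻¹ * g * x, hx g g.2⟩
        map_one' := Subtype.ext (by simp)
        map_mul' := fun a b => Subtype.ext (by
          simp only [Subgroup.coe_mul, MulMemClass.mk_mul_mk]
          group) }
    refine isCyclic_of_subgroup_isDomain ((borelChar h).comp f) ?_
    refine (injective_iff_map_eq_one _).2 fun g hg => ?_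
    have h2 : x⁻¹ * (g : Cfsg.Sz F m) * x ∈ tGroup h := borelChar_eq_one h (g := f g) hg
    obtain ⟨a, ha⟩ := IsPGroup.iff_orderOf.1 (isPGroup_tGroup h) ⟨_, h2⟩
    obtain ⟨b, hb⟩ := IsPGroup.iff_orderOf.1 P.2 g
    rw [Subgroup.orderOf_mk, show x⁻¹ * (g : Cfsg.Sz F m) * x = MulAut.conj x⁻¹ (g : Cfsg.Sz F m)
      by simp, MulEquiv.orderOf_eq,
      Subgroup.orderOf_coe, hb] at ha
    apply orderOf_eq_one_iff.1
    rw [hb]
    have hc : Nat.Coprime (p ^ b) (2 ^ a) :=
      Nat.Coprime.pow _ _ ((Nat.coprime_primes Fact.out Nat.prime_two).2 hp)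
    exact hc.eq_one_of_dvd (ha ▸ dvd_rfl)

/-! ### The Sylow 2-subgroup -/

theorem tS_sq (a b : F) : tS h a b * tS h a b = tS h 0 (sig m a * a) := by
  rw [tS_mul, h.add_self, h.add_self, zero_add]

theorem tS_center_mem {g : tGroup h} :
    g ∈ Subgroup.center (tGroup h) ↔ ∃ b, (g : Cfsg.Sz F m) = tS h 0 b := by
  rw [Subgroup.mem_center_iff]
  constructor
  · intro hc
    obtain ⟨g, a, b, rfl⟩ := g
    have key : ∀ c, sig m a * c = sig m c * a := fun c => by
      have := congrArg Subtype.val (hc ⟨tS h c 0, tS_mem_tGroup h c 0⟩)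
      simp only [Subgroup.coe_mul, tS_mul, zero_add, add_zero] at this
      exact (add_left_cancel (tS_injective h this).2).symm
    have h1 := key 1
    rw [mul_one, sig_one, one_mul] at h1
    refine ⟨b, ?_⟩
    rcases h.sig_fixed h1 with rfl | rfl
    · rfl
    · exfalso
      obtain ⟨x, hx0, hx1⟩ := h.exists_ne_zero_one
      have h2 := key x
      rw [sig_one, one_mul, mul_one] at h2
      rcases h.sig_fixed h2.symm with e | e
      exacts [hx0 e, hx1 e]
  · rintro ⟨b, hb⟩ ⟨y, c, d, rfl⟩
    apply Subtype.ext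
    simp only [Subgroup.coe_mul, hb, tS_mul, sig_zero, zero_mul, mul_zero, add_zero, zero_add,
      add_comm b d]

theorem tGroup_center_card : Nat.card (Subgroup.center (tGroup h)) = 2 ^ (2 * m + 1) := by
  let f : F → Subgroup.center (tGroup h) := fun b =>
    ⟨⟨tS h 0 b, tS_mem_tGroup h 0 b⟩, (tS_center_mem h).2 ⟨b, rfl⟩⟩
  have hf : Function.Bijective f := by
    constructor
    · intro b c e
      exact (tS_injective h (congrArg (fun z : Subgroup.center (tGroup h) =>
        ((z : tGroup h) : Cfsg.Sz F m)) e)).2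
    · rintro ⟨g, hg⟩
      obtain ⟨b, hb⟩ := (tS_center_mem h).1 hg
      exact ⟨b, Subtype.ext (Subtype.ext hb.symm)⟩
  rw [← Nat.card_congr (Equiv.ofBijective f hf), Nat.card_eq_fintype_card, h.card]

theorem tGroup_exponent : Monoid.exponent (tGroup h) = 4 := by
  have h4 : Monoid.exponent (tGroup h) ∣ 4 := by
    refine Monoid.exponent_dvd_of_forall_pow_eq_one ?_
    rintro ⟨g, a, b, rfl⟩
    apply Subtype.ext
    show (tS h a b) ^ (2 * 2) = 1
    rw [pow_mul, sq, sq, tS_sq, tS_sq, sig_zero, mul_zero, tS_zero]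
  have h2 : ¬ Monoid.exponent (tGroup h) ∣ 2 := by
    intro hd
    have := congrArg Subtype.val (Monoid.exponent_dvd_iff_forall_pow_eq_one.1 hd
      ⟨tS h 1 0, tS_mem_tGroup h 1 0⟩)
    rw [Subgroup.coe_pow, sq, tS_sq, sig_one, one_mul, Subgroup.coe_one] at this
    exact one_ne_zero ((tS_eq_one h).1 this).2
  obtain ⟨i, hi, hi'⟩ := (Nat.dvd_prime_pow Nat.prime_two).1 (show Monoid.exponent (tGroup h) ∣ 2 ^ 2 from h4)
  interval_cases i
  · simp [hi'] at h2
  · simp [hi'] at h2
  · simpa using hi'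

theorem tGroup_commutator : commutator (tGroup h) = Subgroup.center (tGroup h) := by
  have hcomm : ∀ a c : F,
      ⁅(⟨tS h a 0, tS_mem_tGroup h a 0⟩ : tGroup h), (⟨tS h c 0, tS_mem_tGroup h c 0⟩ : tGroup h)⁆ =
        (⟨tS h 0 (sig m a * c + sig m c * a), tS_mem_tGroup h _ _⟩ : tGroup h) := by
    intro a c
    apply Subtype.ext
    simp only [commutatorElement_def, Subgroup.coe_mul, Subgroup.coe_inv, tS_inv, tS_mul]
    congr 1
    · linear_combination (a + c) * h.two_zero
    · simp only [h.sig_add]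
      linear_combination (sig m c * c + sig m a * a + sig m a * c) * h.two_zero
  apply le_antisymm
  · rw [commutator_def, Subgroup.commutator_le]
    rintro ⟨_, a, b, rfl⟩ - ⟨_, c, d, rfl⟩ -
    rw [tS_center_mem]
    refine ⟨sig m a * c + sig m c * a, ?_⟩
    simp only [commutatorElement_def, Subgroup.coe_mul, Subgroup.coe_inv, tS_inv, tS_mul]
    congr 1
    · linear_combination (a + c) * h.two_zero
    · simp only [h.sig_add]
      linear_combination (b + d + sig m c * c + sig m a * a + sig m a * c) * h.two_zero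
  · intro g hg
    obtain ⟨z, hz⟩ := (tS_center_mem h).1 hg
    obtain ⟨t, ht0, ht1⟩ := h.exists_ne_zero_one
    have hu : sig m t + t ≠ 0 := fun e =>
      (h.sig_fixed (h.eq_of_add_eq_zero e)).elim ht0 ht1
    by_cases hz0 : z = 0
    · have : g = 1 := Subtype.ext (by rw [hz, hz0, tS_zero]; rfl)
      rw [this]
      exact one_mem _
    obtain ⟨c, hc⟩ : ∃ c : F, sig m c * c = z / (sig m t + t) := by
      have hinj : Function.Injective (fun c : F => sig m c * c) := by
        intro c d e
        simp only at e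
        by_cases hd : d = 0
        · subst hd
          rw [mul_zero] at e
          rcases mul_eq_zero.1 e with e | e
          exacts [sig_eq_zero.1 e, e]
        · have hne : sig m d ≠ 0 := fun e => hd (sig_eq_zero.1 e)
          have : c / d * sig m (c / d) = 1 := by
            rw [sig_div]
            field_simp
            linear_combination e
          exact (div_eq_one_iff_eq hd).1 (h.eq_one_of_mul_sig this)
      exact (Finite.injective_iff_surjective.1 hinj) _
    have he := hcomm (c * t) c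
    have e : sig m (c * t) * c + sig m c * (c * t) = z := by
      rw [eq_div_iff hu] at hc
      rw [sig_mul]
      linear_combination hc
    rw [e] at he
    rw [show g = ⟨tS h 0 z, tS_mem_tGroup h _ _⟩ from Subtype.ext hz, ← he]
    exact Subgroup.commutator_mem_commutator (Subgroup.mem_top _) (Subgroup.mem_top _)

theorem sylow_two_structure (P : Sylow 2 (Cfsg.Sz F m)) :
    Nat.card P = (2 ^ (2 * m + 1)) ^ 2 ∧ Monoid.exponent P = 4 ∧
      Subgroup.center P = commutator P ∧ Nat.card (Subgroup.center P) = 2 ^ (2 * m + 1) := by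
  obtain ⟨x, hx⟩ := exists_map_tGroup h P
  let e : tGroup h ≃* P :=
    ((tGroup h).equivMapOfInjective _ (MulAut.conj x).injective).trans
      (MulEquiv.subgroupCongr hx.symm)
  have hc : Subgroup.center P = (Subgroup.center (tGroup h)).map e.toMonoidHom := by
    ext y
    rw [Subgroup.mem_map_equiv, Subgroup.mem_center_iff, Subgroup.mem_center_iff]
    refine ⟨fun hy z => ?_, fun hy z => ?_⟩
    · apply e.injective
      simpa using hy (e z)
    · simpa using congrArg e (hy (e.symm z))
  have hcom : commutator P = (commutator (tGroup h)).map e.toMonoidHom := by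
    rw [← derivedSeries_one, ← derivedSeries_one]
    exact (map_derivedSeries_eq (f := e.toMonoidHom) e.surjective 1).symm
  refine ⟨?_, ?_, ?_, ?_⟩
  · rw [← Nat.card_congr e.toEquiv, card_tGroup h, ← pow_mul, mul_comm]
  · rw [← Monoid.exponent_eq_of_mulEquiv e, tGroup_exponent h]
  · rw [hc, hcom, tGroup_commutator h]
  · rw [hc, Subgroup.card_map_of_injective e.injective, tGroup_center_card h]

end CfsgLib.Suzuki
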