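import Mathlib
import Cfsg.Prelude.Def_LieExceptional
import Cfsg.Prelude.Def_Transfer
import Cfsg.Agent.Lib.Suzuki.Sylow

/-!
Two-generation, real 2-elements, the maximal subgroup over a Sylow 2-subgroup, and elementary
abelian TI-subgroups of `Cfsg.Sz F m`.
-/

set_option autoImplicit false

namespace CfsgLib.Suzuki

open Matrix
open scoped Pointwise

variable {F : Type*} [Field F] [Fintype F] {m : ℕ}

local notation "Pt" => Projectivization F (Fin 4 → F)

variable (h : SzHyp F m)
include h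

theorem eq_top_of_tGroup_not_le_borel {M : Subgroup (Cfsg.Sz F m)} (hT : tGroup h ≤ M)
    (hM : ¬ M ≤ borel F m) : M = ⊤ := by
  obtain ⟨g, hgM, hg⟩ := SetLike.not_le_iff_exists.1 hM
  -- `M` is transitive on the ovoid
  obtain ⟨g₀, hg₀M, hg₀⟩ : ∃ z ∈ M, z • (pInf : Pt) = pAff m (0 : F) 0 := by
    rcases mem_ovoid.1 (smul_ovoid g.2 (pInf_mem (F := F) (m := m))) with e | ⟨a, b, e⟩
    · exact absurd e hg
    · refine ⟨(tS h a b)⁻¹ * g, mul_mem (inv_mem (hT (tS_mem_tGroup h a b))) hgM, ?_⟩
      rw [mul_smul, inv_smul_eq_iff, tS_smul_p0]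
      exact e
  have htrans : ∀ x : Cfsg.Sz F m, ∃ z ∈ M, z • (pInf : Pt) = x • (pInf : Pt) := by
    intro x
    rcases mem_ovoid.1 (smul_ovoid x.2 (pInf_mem (F := F) (m := m))) with e | ⟨a, b, e⟩
    · exact ⟨1, one_mem _, (one_smul _ _).trans e.symm⟩
    · refine ⟨tS h a b * g₀, mul_mem (hT (tS_mem_tGroup h a b)) hg₀M, ?_⟩
      rw [mul_smul, hg₀, tS_smul_p0]
      exact e.symm
  -- hence it contains the normal closure of the translations
  have hK : Subgroup.normalClosure (tGroup h : Set (Cfsg.Sz F m)) ≤ M := by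
    rw [Subgroup.normalClosure, Subgroup.closure_le]
    intro y hy
    obtain ⟨t, ht, hty⟩ := Group.mem_conjugatesOfSet_iff.1 hy
    obtain ⟨x, rfl⟩ := isConj_iff.1 hty
    obtain ⟨z, hz, hzx⟩ := htrans x
    obtain ⟨a, b, k, hk⟩ := exists_tS_dS h (g := z⁻¹ * x)
      (by rw [mul_smul, ← hzx, inv_smul_smul])
    obtain ⟨c, d, rfl⟩ := ht
    have hx : x = z * (tS h a b * dS h k) := by rw [← hk]; group
    rw [hx, show z * (tS h a b * dS h k) * tS h c d * (z * (tS h a b * dS h k))⁻¹ =
      z * (tS h a b * (dS h k * tS h c d * (dS h k)⁻¹) * (tS h a b)⁻¹) * z⁻¹ by group, dS_conj]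
    exact mul_mem (mul_mem hz (mul_mem (mul_mem (hT (tS_mem_tGroup h _ _))
      (hT (tS_mem_tGroup h _ _))) (inv_mem (hT (tS_mem_tGroup h _ _))))) (inv_mem hz)
  have := eq_top_of_tGroup_le h (K := Subgroup.normalClosure (tGroup h : Set (Cfsg.Sz F m)))
    Subgroup.subset_normalClosure
  exact top_le_iff.1 (this ▸ hK)

theorem two_generated :
    ∃ a b : Cfsg.Sz F m, Subgroup.closure ({a, b} : Set (Cfsg.Sz F m)) = ⊤ := by
  obtain ⟨k, hk⟩ := IsCyclic.exists_generator (α := Fˣ)
  have hk1 : k ≠ 1 := by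
    rintro rfl
    obtain ⟨x, hx0, hx1⟩ := h.exists_ne_zero_one
    have := hk (Units.mk0 x hx0)
    rw [Subgroup.zpowers_one_eq_bot, Subgroup.mem_bot] at this
    exact hx1 (congrArg Units.val this)
  refine ⟨dS h k, tS h 1 0 * wS h, ?_⟩
  set H := Subgroup.closure ({dS h k, tS h 1 0 * wS h} : Set (Cfsg.Sz F m)) with hH
  have hd : dS h k ∈ H := Subgroup.subset_closure (by simp)
  have hb : tS h 1 0 * wS h ∈ H := Subgroup.subset_closure (by simp)
  have hD : ∀ j, dS h j ∈ H := fun j => by
    obtain ⟨i, rfl⟩ := hk j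
    have : dS h (k ^ i) = (dS h k) ^ i := map_zpow (dHom h) k i
    exact this ▸ zpow_mem hd i
  -- a translation with first coordinate `1 + k ≠ 0`
  obtain ⟨u, z, hu, huz⟩ : ∃ u z, u ≠ 0 ∧ tS h u z ∈ H := by
    have h1 := mul_mem (mul_mem (mul_mem hb (hD k⁻¹)) (inv_mem hb)) (inv_mem (hD k))
    have e : tS h 1 0 * wS h * dS h k⁻¹ * (tS h 1 0 * wS h)⁻¹ * (dS h k)⁻¹ =
        tS h 1 0 * (dS h k * (tS h 1 0)⁻¹ * (dS h k)⁻¹) := by
      rw [_root_.mul_inv_rev, wS_inv]
      calc _ = tS h 1 0 * (wS h * dS h k⁻¹ * wS h) * (tS h 1 0)⁻¹ * (dS h k)⁻¹ := by group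
        _ = _ := by rw [wS_conj_dS, inv_inv]; group
    rw [e, tS_inv, dS_conj, tS_mul] at h1
    exact ⟨_, _, by rw [mul_one]; exact one_add_ne_zero h hk1, h1⟩
  -- so every first coordinate occurs
  have hfirst : ∀ a : F, ∃ b, tS h a b ∈ H := by
    intro a
    by_cases ha : a = 0
    · exact ⟨0, by rw [ha, tS_zero]; exact one_mem _⟩
    · have h1 := mul_mem (mul_mem (hD (Units.mk0 (a / u) (div_ne_zero ha hu))) huz)
        (inv_mem (hD (Units.mk0 (a / u) (div_ne_zero ha hu))))
      rw [dS_conj] at h1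
      simp only [Units.val_mk0, div_mul_cancel₀ a hu] at h1
      exact ⟨_, h1⟩
  have hT : tGroup h ≤ H := by
    -- `(T(1,·))² = T(0,1)` and its torus conjugates give all of the centre
    have hsq : ∀ z : F, tS h 0 z ∈ H := by
      obtain ⟨b, hb1⟩ := hfirst 1
      have h1 := mul_mem hb1 hb1
      rw [tS_sq, sig_one, one_mul] at h1
      have hinj : Function.Injective fun j : Fˣ => (j : F) * sig m (j : F) := by
        intro i j e
        simp only at e
        have hj : sig m (j : F) ≠ 0 := fun e' => j.ne_zero (sig_eq_zero.1 e')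
        have : ((i / j : Fˣ) : F) * sig m ((i / j : Fˣ) : F) = 1 := by
          rw [Units.val_div_eq_div_val, sig_div]
          field_simp
          linear_combination e
        exact div_eq_one.1 (Units.ext (h.eq_one_of_mul_sig this))
      intro z
      by_cases hz : z = 0
      · rw [hz, tS_zero]; exact one_mem _
      · let f : Fˣ → Fˣ := fun j => Units.mk0 ((j : F) * sig m (j : F))
          (mul_ne_zero j.ne_zero fun e => j.ne_zero (sig_eq_zero.1 e))
        obtain ⟨j, hj⟩ := Finite.injective_iff_surjective.1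
          (show Function.Injective f from fun i j e => hinj (congrArg Units.val e)) (Units.mk0 z hz)
        have h2 := mul_mem (mul_mem (hD j) h1) (inv_mem (hD j))
        rw [dS_conj, mul_zero, mul_one] at h2
        have hjz : (j : F) * sig m (j : F) = z := congrArg Units.val hj
        rwa [hjz] at h2
    rintro _ ⟨a, b, rfl⟩
    obtain ⟨b', hb'⟩ := hfirst a
    have := mul_mem (hsq (b + b')) hb'
    rwa [tS_mul, zero_add, sig_zero, zero_mul, add_zero, add_assoc, h.add_self, add_zero] at this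
  refine eq_top_of_tGroup_not_le_borel h hT fun hle => ?_
  have h1 : (tS h 1 0 * wS h) • (pInf : Pt) = pInf := hle hb
  rw [mul_smul, wS_smul_pInf, tS_smul_p0] at h1
  exact pAff_ne_pInf _ _ h1

theorem real_two_element (P : Sylow 2 (Cfsg.Sz F m)) (g : Cfsg.Sz F m)
    (hg : g ∈ (P : Subgroup (Cfsg.Sz F m))) (h1 : g ≠ 1) :
    IsConj g g⁻¹ ↔ orderOf g = 2 := by
  constructor
  · intro hc
    obtain ⟨x, hx⟩ := exists_map_tGroup h P
    rw [hx, mem_map_conj] at hg
    obtain ⟨t, ht⟩ : ∃ t, t = x⁻¹ * g * x := ⟨_, rfl⟩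
    rw [← ht] at hg
    have hgt : g = x * t * x⁻¹ := by rw [ht]; group
    have hne : t ≠ 1 := fun e => h1 (by rw [hgt, e]; group)
    have hct : IsConj t t⁻¹ := by
      obtain ⟨y, hy⟩ := isConj_iff.1 hc
      refine isConj_iff.2 ⟨x⁻¹ * y * x, ?_⟩
      calc x⁻¹ * y * x * t * (x⁻¹ * y * x)⁻¹ = x⁻¹ * (y * g * y⁻¹) * x := by rw [ht]; group
        _ = t⁻¹ := by rw [hy, ht]; group
    obtain ⟨y, hy⟩ := isConj_iff.1 hct
    obtain ⟨a, b, rfl⟩ := hg
    have ha : a = 0 := by
      by_contra ha
      have hyi : y • (pInf : Pt) = pInf := by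
        refine tS_fixed h (inv_mem (tS_mem_tGroup h a b)) (inv_ne_one.2 hne)
          (smul_ovoid y.2 pInf_mem) ?_
        change (tS h a b)⁻¹ • (y • (pInf : Pt)) = y • (pInf : Pt)
        rw [← hy, mul_smul, mul_smul, inv_smul_smul, tS_smul_pInf]
      obtain ⟨c, d, k, rfl⟩ := exists_tS_dS h hyi
      rw [show tS h c d * dS h k * tS h a b * (tS h c d * dS h k)⁻¹ =
        tS h c d * (dS h k * tS h a b * (dS h k)⁻¹) * (tS h c d)⁻¹ by group, dS_conj, tS_inv,
        tS_inv, tS_mul, tS_mul] at hy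
      obtain ⟨e1, e2⟩ := tS_injective h hy
      have hk : k = 1 := by
        apply Units.ext
        apply mul_right_cancel₀ ha
        rw [Units.val_one, one_mul]
        linear_combination e1 - c * h.two_zero
      subst hk
      simp only [Units.val_one, sig_one, one_mul, h.sig_add] at e2
      have e3 : sig m a * c + sig m c * a = sig m a * a := by
        linear_combination e2 - (d + sig m c * c) * h.two_zero
      have e4 : sig m (c / a) + c / a = 1 := by
        have hsa : sig m a ≠ 0 := fun e => ha (sig_eq_zero.1 e)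
        rw [sig_div]
        field_simp
        linear_combination e3
      have e5 : (c / a) ^ 2 = c / a := by
        have h5 : sig m (c / a) = c / a + 1 := by
          linear_combination e4 - (c / a) * h.two_zero
        rw [← h.sig_sig, h5, h.sig_add, sig_one, h5]
        linear_combination h.two_zero
      rcases h.eq_zero_or_one_of_sq e5 with e | e <;> rw [e] at e4
      · simp [sig_zero] at e4
      · rw [sig_one, h.add_self] at e4
        exact zero_ne_one e4
    subst ha
    have h2 : g * g = 1 := by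
      rw [hgt]
      calc x * tS h 0 b * x⁻¹ * (x * tS h 0 b * x⁻¹) = x * (tS h 0 b * tS h 0 b) * x⁻¹ := by group
        _ = 1 := by rw [tS_sq, mul_zero, tS_zero]; group
    exact orderOf_eq_prime (by rw [pow_two, h2]) h1
  · intro ho
    have h2 : g⁻¹ = g := by
      rw [inv_eq_iff_mul_eq_one, ← pow_two, ← ho, pow_orderOf_eq_one]
    rw [h2]

omit h in
theorem map_conj_normalizer {G : Type*} [Group G] (H : Subgroup G) (x : G) :
    Subgroup.normalizer ((H.map (MulAut.conj x).toMonoidHom : Subgroup G) : Set G) =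
      (Subgroup.normalizer (H : Set G)).map (MulAut.conj x).toMonoidHom :=
  (Subgroup.map_equiv_normalizer_eq H (MulAut.conj x)).symm

theorem normalizer_tGroup :
    Subgroup.normalizer (tGroup h : Set (Cfsg.Sz F m)) = borel F m := by
  refine le_antisymm (fun g hg => ?_) (fun g hg => ?_)
  · have h1 := (Subgroup.mem_normalizer_iff.1 hg (tS h 0 1)).1 (tS_mem_tGroup h 0 1)
    refine tS_fixed h h1 ?_ (smul_ovoid g.2 pInf_mem) ?_
    · rw [Ne, conj_eq_one_iff]
      exact fun e => one_ne_zero ((tS_eq_one h).1 e).2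
    · change (g * tS h 0 1 * g⁻¹) • (g • (pInf : Pt)) = g • (pInf : Pt)
      rw [mul_smul, inv_smul_smul, mul_smul, tS_smul_pInf]
  · obtain ⟨a, b, k, rfl⟩ := exists_tS_dS h hg
    refine mul_mem (Subgroup.le_normalizer (tS_mem_tGroup h a b)) ?_
    rw [Subgroup.mem_normalizer_iff]
    intro n
    constructor
    · rintro ⟨c, d, rfl⟩
      rw [dS_conj]
      exact tS_mem_tGroup h _ _
    · rintro ⟨c, d, hn⟩
      have : n = dS h k⁻¹ * tS h c d * (dS h k⁻¹)⁻¹ := by rw [← hn, ← dS_inv]; group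
      rw [this, dS_conj]
      exact tS_mem_tGroup h _ _

theorem sylow_unique_maximal (P : Sylow 2 (Cfsg.Sz F m)) :
    IsCoatom (Subgroup.normalizer ((P : Subgroup (Cfsg.Sz F m)) : Set (Cfsg.Sz F m))) ∧
    ∀ M : Subgroup (Cfsg.Sz F m), IsCoatom M → (P : Subgroup (Cfsg.Sz F m)) ≤ M →
      M = Subgroup.normalizer ((P : Subgroup (Cfsg.Sz F m)) : Set (Cfsg.Sz F m)) := by
  obtain ⟨x, hx⟩ := exists_map_tGroup h P
  rw [hx, map_conj_normalizer, normalizer_tGroup h]
  set e : Subgroup (Cfsg.Sz F m) ≃o Subgroup (Cfsg.Sz F m) :=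
    (MulAut.conj x).mapSubgroup with he
  have hne : borel F m ≠ ⊤ := fun e => by
    have hw : wS h ∈ borel F m := by rw [e]; exact Subgroup.mem_top _
    have : wS h • (pInf : Pt) = pInf := MulAction.mem_stabilizer_iff.1 hw
    rw [wS_smul_pInf] at this
    exact pAff_ne_pInf _ _ this
  have hmax : IsCoatom (borel F m) := by
    refine ⟨hne, fun M hM => ?_⟩
    exact eq_top_of_tGroup_not_le_borel h ((tGroup_le_borel h).trans hM.le) hM.not_ge
  refine ⟨(e.isCoatom_iff (borel F m)).2 hmax, fun M hM hle => ?_⟩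
  obtain ⟨N, rfl⟩ := e.surjective M
  have hN : IsCoatom N := (e.isCoatom_iff N).1 hM
  have hT : tGroup h ≤ N := e.le_iff_le.1 (show e (tGroup h) ≤ e N from hle)
  have hNB : N ≤ borel F m := by
    by_contra hc
    exact hN.1 (eq_top_of_tGroup_not_le_borel h hT hc)
  show e N = e (borel F m)
  rw [le_antisymm hNB ((hN.le_iff.1 hNB).resolve_left hne).le]

theorem elemAbelian_ti_iff (n : ℕ) (hn : 2 ≤ n) :
    (∃ E : Subgroup (Cfsg.Sz F m), Cfsg.IsElementaryAbelian 2 E ∧ Nat.card E = 2 ^ n ∧
      ∀ x : Cfsg.Sz F m, E ⊓ E.map (MulAut.conj x).toMonoidHom ≠ ⊥ →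
        x ∈ Subgroup.normalizer (E : Set (Cfsg.Sz F m))) ↔ n ∣ 2 * m + 1 := by
  have := Fact.mk Nat.prime_two
  have hrt : ∀ z : F, z ≠ 0 → ∃ j : Fˣ, (j : F) * sig m (j : F) = z := by
    intro z hz
    let f : Fˣ → Fˣ := fun j => Units.mk0 ((j : F) * sig m (j : F))
      (mul_ne_zero j.ne_zero fun e => j.ne_zero (sig_eq_zero.1 e))
    have hf : Function.Injective f := by
      intro i j e
      have e' : (i : F) * sig m (i : F) = (j : F) * sig m (j : F) := congrArg Units.val e
      have hj : sig m (j : F) ≠ 0 := fun e' => j.ne_zero (sig_eq_zero.1 e')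
      have : ((i / j : Fˣ) : F) * sig m ((i / j : Fˣ) : F) = 1 := by
        rw [Units.val_div_eq_div_val, sig_div]
        field_simp
        linear_combination e'
      exact div_eq_one.1 (Units.ext (h.eq_one_of_mul_sig this))
    obtain ⟨j, hj⟩ := Finite.injective_iff_surjective.1 hf (Units.mk0 z hz)
    exact ⟨j, congrArg Units.val hj⟩
  constructor
  · rintro ⟨E, hE, hcard, hti⟩
    -- move `E` into the translations
    obtain ⟨P, hP⟩ := (IsPGroup.of_card hcard).exists_le_sylow
    obtain ⟨x, hx⟩ := exists_map_tGroup h P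
    have hz : ∀ g ∈ E, ∃ v, x⁻¹ * g * x = tS h 0 v := by
      intro g hg
      obtain ⟨a, b, hab⟩ := mem_map_conj.1 (hx ▸ hP hg)
      refine ⟨b, ?_⟩
      have h2 : g * g = 1 := by
        have := hE.2 g hg
        rwa [pow_two] at this
      have h3 : tS h a b * tS h a b = 1 := by
        rw [← hab]
        calc x⁻¹ * g * x * (x⁻¹ * g * x) = x⁻¹ * (g * g) * x := by group
          _ = 1 := by rw [h2]; group
      rw [tS_sq, tS_eq_one] at h3
      have ha : a = 0 := by
        rcases mul_eq_zero.1 h3.2 with e | e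
        exacts [sig_eq_zero.1 e, e]
      rw [hab, ha]
    let V : Set F := {v | x * tS h 0 v * x⁻¹ ∈ E}
    have hV0 : (0 : F) ∈ V := by simp [V, tS_zero]
    have hVadd : ∀ u v, u ∈ V → v ∈ V → u + v ∈ V := fun u v hu hv => by
      have := mul_mem (show x * tS h 0 u * x⁻¹ ∈ E from hu) (show x * tS h 0 v * x⁻¹ ∈ E from hv)
      rw [show x * tS h 0 u * x⁻¹ * (x * tS h 0 v * x⁻¹) = x * (tS h 0 u * tS h 0 v) * x⁻¹ by
        group, tS_mul, zero_add, mul_zero, add_zero] at this
      exact this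
    let f : V → E := fun v => ⟨x * tS h 0 v.1 * x⁻¹, v.2⟩
    have hf : Function.Bijective f := by
      constructor
      · rintro ⟨u, hu⟩ ⟨v, hv⟩ e
        exact Subtype.ext (tS_injective h (mul_left_cancel (mul_right_cancel
          (congrArg Subtype.val e)))).2
      · rintro ⟨g, hg⟩
        obtain ⟨v, hv⟩ := hz g hg
        have hgv : g = x * tS h 0 v * x⁻¹ := by rw [← hv]; group
        exact ⟨⟨v, show x * tS h 0 v * x⁻¹ ∈ E from hgv ▸ hg⟩, Subtype.ext hgv.symm⟩
    have hVcard : Nat.card V = 2 ^ n := (Nat.card_congr (Equiv.ofBijective f hf)).trans hcard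
    obtain ⟨v₀, hv₀, hv₀0⟩ : ∃ v ∈ V, v ≠ 0 := by
      by_contra hc
      push Not at hc
      have : V = {0} := Set.eq_singleton_iff_unique_mem.2 ⟨hV0, hc⟩
      rw [this, Nat.card_unique] at hVcard
      exact (Nat.one_lt_two_pow (by omega)).ne hVcard
    -- the TI property: a scalar moving one non-zero element of `V` into `V` preserves `V`
    have hscale : ∀ u v : F, u ∈ V → v ∈ V → u ≠ 0 → v ≠ 0 → ∀ w ∈ V, u / v * w ∈ V := by
      intro u v hu hv hu0 hv0 w hw
      obtain ⟨j, hj⟩ := hrt (u / v) (div_ne_zero hu0 hv0)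
      have hconj : ∀ z, x * dS h j * x⁻¹ * (x * tS h 0 z * x⁻¹) * (x * dS h j * x⁻¹)⁻¹ =
          x * tS h 0 (u / v * z) * x⁻¹ := fun z => by
        rw [show x * dS h j * x⁻¹ * (x * tS h 0 z * x⁻¹) * (x * dS h j * x⁻¹)⁻¹ =
          x * (dS h j * tS h 0 z * (dS h j)⁻¹) * x⁻¹ by group, dS_conj, mul_zero, hj]
      have hN := hti (x * dS h j * x⁻¹) (by
        intro e
        have hmem : x * tS h 0 u * x⁻¹ ∈ E ⊓ E.map (MulAut.conj (x * dS h j * x⁻¹)).toMonoidHom := by
          refine ⟨hu, ⟨x * tS h 0 v * x⁻¹, hv, ?_⟩⟩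
          rw [MulEquiv.coe_toMonoidHom, MulAut.conj_apply, hconj, div_mul_cancel₀ u hv0]
        rw [e, Subgroup.mem_bot, conj_eq_one_iff, tS_eq_one] at hmem
        exact hu0 hmem.2)
      have := (Subgroup.mem_normalizer_iff.1 hN _).1 hw
      rw [hconj] at this
      exact this
    -- `V / v₀` is a subfield
    let S : Subfield F :=
      { carrier := {z | z * v₀ ∈ V}
        mul_mem' := fun {a b} ha hb => by
          show a * b * v₀ ∈ V
          by_cases ha0 : a = 0
          · simp [ha0, hV0]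
          by_cases hb0 : b = 0
          · simp [hb0, hV0]
          have := hscale (a * v₀) v₀ ha hv₀ (mul_ne_zero ha0 hv₀0) hv₀0 (b * v₀) hb
          rwa [mul_div_assoc, div_self hv₀0, mul_one, ← mul_assoc] at this
        one_mem' := by simpa using hv₀
        add_mem' := fun {a b} ha hb => by
          show (a + b) * v₀ ∈ V
          rw [add_mul]
          exact hVadd _ _ ha hb
        zero_mem' := by simpa using hV0
        neg_mem' := fun {a} ha => by rwa [h.neg_eq]
        inv_mem' := fun a ha => by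
          show a⁻¹ * v₀ ∈ V
          by_cases ha0 : a = 0
          · simp [ha0, hV0]
          have := hscale v₀ (a * v₀) hv₀ ha hv₀0 (mul_ne_zero ha0 hv₀0) v₀ hv₀
          rwa [show v₀ / (a * v₀) = a⁻¹ by field_simp] at this }
    have hScard : Nat.card S = 2 ^ n := by
      rw [← hVcard]
      refine Nat.card_congr
        ⟨fun z => ⟨z.1 * v₀, z.2⟩, fun v => ⟨v.1 / v₀, ?_⟩, fun z => ?_, fun v => ?_⟩
      · show v.1 / v₀ * v₀ ∈ V
        rw [div_mul_cancel₀ _ hv₀0]; exact v.2
      · exact Subtype.ext (by simp [hv₀0])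
      · exact Subtype.ext (by simp [hv₀0])
    have hpow : Nat.card F = Nat.card S ^ Module.finrank S F := Module.natCard_eq_pow_finrank
    rw [hScard, Nat.card_eq_fintype_card, h.card, ← pow_mul] at hpow
    exact Dvd.intro _ (Nat.pow_right_injective le_rfl hpow).symm
  · intro hdvd
    -- the fixed field of `x ↦ x^(2^n)`
    have hchar := h.charTwo
    have hpr : (Nat.card F) = 2 ^ (2 * m + 1) := by rw [Nat.card_eq_fintype_card, h.card]
    let E : Subgroup (Cfsg.Sz F m) :=
      { carrier := {g | ∃ v : F, v ^ 2 ^ n = v ∧ g = tS h 0 v}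
        mul_mem' := by
          rintro _ _ ⟨u, hu, rfl⟩ ⟨v, hv, rfl⟩
          refine ⟨u + v, by rw [add_pow_char_pow, hu, hv], ?_⟩
          rw [tS_mul, zero_add, sig_zero, zero_mul, add_zero]
        one_mem' := ⟨0, zero_pow (by positivity), (tS_zero h).symm⟩
        inv_mem' := by
          rintro _ ⟨v, hv, rfl⟩
          exact ⟨v, hv, by rw [tS_inv, mul_zero, add_zero]⟩ }
    refine ⟨E, ⟨⟨?_, ?_⟩, ?_, ?_⟩⟩
    · refine ⟨⟨?_⟩⟩
      rintro ⟨_, u, hu, rfl⟩ ⟨_, v, hv, rfl⟩
      exact Subtype.ext (by simp only [Subgroup.coe_mul, tS_mul, add_comm u v, sig_zero, zero_mul])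
    · rintro _ ⟨v, hv, rfl⟩
      rw [pow_two, tS_sq, mul_zero, tS_zero]
    · obtain ⟨c, hc⟩ := hdvd
      let f : {v : F // v ^ 2 ^ n = v} → E := fun v => ⟨tS h 0 v.1, v.1, v.2, rfl⟩
      have hf : Function.Bijective f := by
        constructor
        · intro u v e
          exact Subtype.ext (tS_injective h (congrArg Subtype.val e)).2
        · rintro ⟨_, v, hv, rfl⟩
          exact ⟨⟨v, hv⟩, rfl⟩
      rw [← Nat.card_congr (Equiv.ofBijective f hf)]
      classical
      -- roots of `X^(2^n) - X`, which divides `X^q - X`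
      have hdvdX : (Polynomial.X ^ 2 ^ n - Polynomial.X : Polynomial F) ∣
          Polynomial.X ^ 2 ^ (2 * m + 1) - Polynomial.X := by
        have h1 : ∀ i : ℕ, (Polynomial.X ^ 2 ^ n - Polynomial.X : Polynomial F) ∣
            Polynomial.X ^ 2 ^ (n * i) - Polynomial.X := by
          intro i
          induction i with
          | zero => simp
          | succ i ih =>
            have h2 : (Polynomial.X ^ 2 ^ n : Polynomial F) - Polynomial.X ∣
                (Polynomial.X ^ 2 ^ n) ^ 2 ^ (n * i) - Polynomial.X ^ 2 ^ (n * i) :=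
              sub_dvd_pow_sub_pow _ _ _
            have h3 := dvd_add h2 ih
            rw [← pow_mul, ← pow_add] at h3
            simpa [Nat.mul_succ, add_comm] using h3
        rw [hc]; exact h1 c
      have hq : (Polynomial.X ^ 2 ^ (2 * m + 1) - Polynomial.X : Polynomial F).roots =
          Finset.univ.val := by
        rw [← h.card]; exact FiniteField.roots_X_pow_card_sub_X F
      have h1n : 1 < 2 ^ n := Nat.one_lt_two_pow (by omega)
      have hdeg : (Polynomial.X ^ 2 ^ n - Polynomial.X : Polynomial F).natDegree = 2 ^ n :=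
        FiniteField.X_pow_card_sub_X_natDegree_eq F h1n
      have hne : (Polynomial.X ^ 2 ^ n - Polynomial.X : Polynomial F) ≠ 0 :=
        FiniteField.X_pow_card_sub_X_ne_zero F h1n
      have hne' : (Polynomial.X ^ 2 ^ (2 * m + 1) - Polynomial.X : Polynomial F) ≠ 0 :=
        FiniteField.X_pow_card_sub_X_ne_zero F (Nat.one_lt_two_pow (by omega))
      have hsplit : (Polynomial.X ^ 2 ^ (2 * m + 1) - Polynomial.X : Polynomial F).Splits := by
        rw [Polynomial.splits_iff_card_roots, hq, ← Finset.card_def, Finset.card_univ, h.card,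
          FiniteField.X_pow_card_sub_X_natDegree_eq F (Nat.one_lt_two_pow (by omega))]
      have hs := hsplit.of_dvd hne' hdvdX
      rw [Polynomial.splits_iff_card_roots, hdeg] at hs
      have hnd : (Polynomial.X ^ 2 ^ n - Polynomial.X : Polynomial F).roots.Nodup :=
        Multiset.nodup_of_le (Polynomial.roots.le_of_dvd hne' hdvdX)
          (hq ▸ Finset.univ.nodup)
      refine Eq.trans ?_ hs
      rw [← Multiset.toFinset_card_of_nodup hnd, ← Nat.card_eq_finsetCard]
      refine Nat.card_congr (Equiv.subtypeEquivRight fun v => ?_)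
      rw [Multiset.mem_toFinset, Polynomial.mem_roots hne]
      simp [sub_eq_zero]
    · intro x hx
      obtain ⟨⟨g, ⟨v, hv, hgv⟩, u, ⟨w, hw, hxu⟩, hcj⟩, hne⟩ := Subgroup.ne_bot_iff_exists_ne_one.1 hx
      have hg1 : tS h 0 v ≠ 1 := fun e => hne (Subtype.ext (hgv.trans e))
      rw [MulEquiv.coe_toMonoidHom, MulAut.conj_apply, hxu, hgv] at hcj
      have hv0 : v ≠ 0 := fun e => hg1 (by rw [e, tS_zero])
      have hxi : x • (pInf : Pt) = pInf := by
        refine tS_fixed h (tS_mem_tGroup h 0 v) hg1 (smul_ovoid x.2 pInf_mem) ?_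
        change tS h 0 v • (x • (pInf : Pt)) = x • (pInf : Pt)
        rw [← hcj, mul_smul, inv_smul_smul, mul_smul, tS_smul_pInf]
      obtain ⟨a, b, k, rfl⟩ := exists_tS_dS h hxi
      have hconj : ∀ z, tS h a b * dS h k * tS h 0 z * (tS h a b * dS h k)⁻¹ =
          tS h 0 ((k : F) * sig m (k : F) * z) := fun z => by
        rw [show tS h a b * dS h k * tS h 0 z * (tS h a b * dS h k)⁻¹ =
          tS h a b * (dS h k * tS h 0 z * (dS h k)⁻¹) * (tS h a b)⁻¹ by group, dS_conj, tS_inv,
          tS_mul, tS_mul]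
        simp only [mul_zero, add_zero, h.add_self]
        congr 1
        linear_combination (sig m a * a + b) * h.two_zero
      rw [hconj] at hcj
      have hl := (tS_injective h hcj).2
      obtain ⟨l, hl0⟩ : ∃ l : F, l = (k : F) * sig m (k : F) := ⟨_, rfl⟩
      rw [← hl0] at hl
      simp only [← hl0] at hconj
      have hw0 : w ≠ 0 := fun e => hv0 (by rw [← hl, e, mul_zero])
      have hlp : l ^ 2 ^ n = l := by
        have h1 : l ^ 2 ^ n * w = l * w := by
          calc l ^ 2 ^ n * w = (l * w) ^ 2 ^ n := by rw [mul_pow, hw]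
            _ = l * w := by rw [hl, hv]
        exact mul_right_cancel₀ hw0 h1
      have hlne : l ≠ 0 := hl0 ▸ mul_ne_zero k.ne_zero fun e => k.ne_zero (sig_eq_zero.1 e)
      rw [Subgroup.mem_normalizer_iff]
      intro y
      constructor
      · rintro ⟨z, hz, rfl⟩
        exact ⟨l * z, by rw [mul_pow, hlp, hz], hconj z⟩
      · rintro ⟨z, hz, hy⟩
        refine ⟨z / l, by rw [div_pow, hlp, hz], ?_⟩
        have h3 := hconj (z / l)
        rw [mul_div_cancel₀ z hlne, ← hy] at h3
        exact (mul_left_cancel (mul_right_cancel h3)).symm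

end CfsgLib.Suzuki
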