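import Mathlib
import Cfsg.Prelude.Def_LieExceptional
import Cfsg.Agent.Lib.Suzuki.Subgroups

/-!
The exceptional cyclic subgroups of orders `q ± √(2q) + 1` and the partition of `Cfsg.Sz F m`.
-/

set_option autoImplicit false

namespace CfsgLib.Suzuki

open Matrix
open scoped Pointwise

variable {F : Type*} [Field F] [Fintype F] {m : ℕ}

local notation "SL4" => SpecialLinearGroup (Fin 4) F
local notation "Q₁" => (2 ^ (2 * m + 1)) ^ 2 + 1

/-- An exceptional torus: the centraliser of an element of prime order dividing `q² + 1`. -/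
def IsExcTorus (U : Subgroup (Cfsg.Sz F m)) : Prop :=
  ∃ v p, p.Prime ∧ p ∣ (2 ^ (2 * m + 1)) ^ 2 + 1 ∧ orderOf v = p ∧ U = Subgroup.centralizer {v}

/-- Non-identity elements conjugate into `U`. -/
def torusClass (U : Subgroup (Cfsg.Sz F m)) : Set (Cfsg.Sz F m) :=
  {g | g ≠ 1 ∧ ∃ x : Cfsg.Sz F m, x⁻¹ * g * x ∈ U}

variable (h : SzHyp F m)
include h

theorem card_eq_Q : Nat.card (Cfsg.Sz F m) =
    Q₁ * ((2 ^ (2 * m + 1)) ^ 2 * (2 ^ (2 * m + 1) - 1)) := by
  rw [card h]; ring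

theorem card_cyclic_dvd {U : Subgroup (Cfsg.Sz F m)} (hU : IsExcTorus U) : Nat.card U ∣ Q₁ := by
  obtain ⟨v, p, hp, hpQ, hv, rfl⟩ := hU
  have := Fact.mk hp
  have hv1 : v ≠ 1 := fun e => hp.one_lt.ne (by rw [← hv, e, orderOf_one])
  refine Nat.Coprime.dvd_of_dvd_mul_right (k := Nat.card (Subgroup.centralizer {v})) ?_
    (by rw [← card_eq_Q h]; exact Subgroup.card_subgroup_dvd_card _)
  refine Nat.coprime_of_dvd' fun r hr h1 h2 => ?_
  exfalso
  have := Fact.mk hr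
  obtain ⟨z, hz⟩ := exists_prime_orderOf_dvd_card' r h1
  have hrQ : ¬ r ∣ Q₁ := fun hq =>
    hr.one_lt.ne (Nat.dvd_one.1 ((coprime_Q h) ▸ Nat.dvd_gcd hq h2)).symm
  have hz' : orderOf (z : Cfsg.Sz F m) = r := by rw [Subgroup.orderOf_coe, hz]
  obtain ⟨pt, hpt, he⟩ := exists_fix_of_prime h hz' hrQ
  have hz1 : (z : Cfsg.Sz F m) ≠ 1 := fun e => hr.one_lt.ne (by rw [← hz', e, orderOf_one])
  obtain ⟨x, A, hA, -, hle⟩ := centralizer_fix h hz1 hpt he
  have hvA := mem_map_conj.1 (hle (x := v) (by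
    rw [Subgroup.mem_centralizer_singleton_iff]
    exact (Subgroup.mem_centralizer_singleton_iff.1 z.2).symm))
  have hAB : A ≤ borel F m := by
    rcases hA with rfl | rfl
    exacts [tGroup_le_borel h, torus_le_borel h]
  exact fix_false h hv1 (hv ▸ hpQ) (smul_ovoid x.2 pInf_mem) (conj_fix.1 (hAB hvA))

theorem IsExcTorus.isCyclic {U : Subgroup (Cfsg.Sz F m)} (hU : IsExcTorus U) : IsCyclic U := by
  obtain ⟨v, p, hp, hpQ, hv, rfl⟩ := hU
  have := Fact.mk hp
  exact centralizer_exc h hv hpQ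

theorem IsExcTorus.five_le {U : Subgroup (Cfsg.Sz F m)} (hU : IsExcTorus U) :
    5 ≤ Nat.card U := by
  obtain ⟨v, p, hp, hpQ, hv, rfl⟩ := hU
  have := Fact.mk hp
  have hpU : p ≤ Nat.card (Subgroup.centralizer {v}) := by
    refine Nat.le_of_dvd Nat.card_pos ?_
    rw [← hv]
    exact Subgroup.orderOf_dvd_natCard _ (Subgroup.mem_centralizer_singleton_iff.2 rfl)
  have h2 : p ≠ 2 := ne_two_of_dvd h hpQ
  have h3 : p ≠ 3 := by
    intro e
    subst e
    have h4 : (2 ^ (2 * m + 1)) ^ 2 % 3 = 1 := by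
      rw [← pow_mul, mul_comm, pow_mul, Nat.pow_mod]
      norm_num
    omega
  have h4 : p ≠ 4 := fun e => by rw [e] at hp; norm_num at hp
  have := hp.two_le
  omega

theorem IsExcTorus.centralizer_eq {U : Subgroup (Cfsg.Sz F m)} (hU : IsExcTorus U)
    {u : Cfsg.Sz F m} (hu : u ∈ U) (hu1 : u ≠ 1) : Subgroup.centralizer {u} = U := by
  have hcyc := hU.isCyclic h
  have hdvd := card_cyclic_dvd h hU
  obtain ⟨v, p, hp, hpQ, hv, rfl⟩ := hU
  letI : CommGroup (Subgroup.centralizer {v}) := IsCyclic.commGroup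
  have hle : Subgroup.centralizer {v} ≤ Subgroup.centralizer {u} := fun y hy => by
    rw [Subgroup.mem_centralizer_singleton_iff]
    exact congrArg Subtype.val (mul_comm (⟨y, hy⟩ : Subgroup.centralizer {v}) ⟨u, hu⟩)
  refine le_antisymm ?_ hle
  obtain ⟨r, k, hr, hk⟩ := exists_prime_pow h hu1
  have hrQ : r ∣ Q₁ := by
    rw [← hk]
    exact (Subgroup.orderOf_dvd_natCard _ (pow_mem hu k)).trans hdvd
  have := Fact.mk hr
  have hcyc' := centralizer_exc h hk hrQ
  letI : CommGroup (Subgroup.centralizer {u ^ k}) := IsCyclic.commGroup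
  intro y hy
  have hy' := centralizer_le_pow u k hy
  have hv' : v ∈ Subgroup.centralizer {u ^ k} := by
    rw [Subgroup.mem_centralizer_singleton_iff]
    exact (Subgroup.mem_centralizer_singleton_iff.1 (pow_mem hu k)).symm
  rw [Subgroup.mem_centralizer_singleton_iff]
  exact congrArg Subtype.val (mul_comm (⟨y, hy'⟩ : Subgroup.centralizer {u ^ k}) ⟨v, hv'⟩)

theorem IsExcTorus.mem_normalizer {U : Subgroup (Cfsg.Sz F m)} (hU : IsExcTorus U)
    {a y : Cfsg.Sz F m} (ha : a ∈ U) (ha1 : a ≠ 1) (hy : y * a * y⁻¹ ∈ U) :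
    y ∈ Subgroup.normalizer (U : Set (Cfsg.Sz F m)) := by
  have h1 := hU.centralizer_eq h ha ha1
  have h2 := hU.centralizer_eq h hy (by rwa [Ne, conj_eq_one_iff])
  rw [Subgroup.mem_normalizer_iff]
  intro n
  conv_lhs => rw [← h1]
  conv_rhs => rw [← h2]
  rw [Subgroup.mem_centralizer_singleton_iff, Subgroup.mem_centralizer_singleton_iff]
  constructor
  · intro e
    calc y * n * y⁻¹ * (y * a * y⁻¹) = y * (n * a) * y⁻¹ := by group
      _ = _ := by rw [e]; group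
  · intro e
    calc n * a = y⁻¹ * (y * n * y⁻¹ * (y * a * y⁻¹)) * y := by group
      _ = _ := by rw [e]; group

/-- A prime shared by two exceptional tori makes them conjugate. -/
theorem IsExcTorus.conj_of_dvd {U U' : Subgroup (Cfsg.Sz F m)} (hU : IsExcTorus U)
    (hU' : IsExcTorus U') {p : ℕ} (hp : p.Prime) (hpU : p ∣ Nat.card U) (hpU' : p ∣ Nat.card U') :
    ∃ x, U' = U.map (MulAut.conj x).toMonoidHom := by
  have := Fact.mk hp
  have hpQ := hpU.trans (card_cyclic_dvd h hU)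
  have key : ∀ V : Subgroup (Cfsg.Sz F m), IsExcTorus V → p ∣ Nat.card V →
      ∃ P : Sylow p (Cfsg.Sz F m), (P : Subgroup (Cfsg.Sz F m)) ≤ V ∧
        ∃ a ∈ (P : Subgroup (Cfsg.Sz F m)), a ≠ 1 := by
    intro V hV hpV
    obtain ⟨a, ha⟩ := exists_prime_orderOf_dvd_card' p hpV
    have ha' : orderOf (a : Cfsg.Sz F m) = p := by rw [Subgroup.orderOf_coe, ha]
    have ha1 : (a : Cfsg.Sz F m) ≠ 1 := fun e => hp.one_lt.ne (by rw [← ha', e, orderOf_one])
    obtain ⟨P, hP⟩ := (IsPGroup.of_card (p := p) (n := 1)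
      (show Nat.card (Subgroup.zpowers (a : Cfsg.Sz F m)) = p ^ 1 by
        rw [Nat.card_zpowers, ha', pow_one])).exists_le_sylow
    have haP := hP (Subgroup.mem_zpowers _)
    refine ⟨P, ?_, a, haP, ha1⟩
    have := sylow_odd_cyclic h (ne_two_of_dvd h hpQ) P
    letI : CommGroup P := IsCyclic.commGroup
    rw [← hV.centralizer_eq h a.2 ha1]
    intro y hy
    rw [Subgroup.mem_centralizer_singleton_iff]
    exact congrArg Subtype.val (mul_comm (⟨y, hy⟩ : P) ⟨a, haP⟩)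
  obtain ⟨P, hP, a, haP, ha1⟩ := key U hU hpU
  obtain ⟨P', hP', -⟩ := key U' hU' hpU'
  obtain ⟨x, hx⟩ := MulAction.exists_smul_eq (Cfsg.Sz F m) P P'
  refine ⟨x, ?_⟩
  have hxa : x * a * x⁻¹ ∈ U' := hP' (by rw [← hx]; exact ⟨a, haP, rfl⟩)
  have h1 := hU.centralizer_eq h (hP haP) ha1
  have h2 := hU'.centralizer_eq h hxa (by rwa [Ne, conj_eq_one_iff])
  ext n
  rw [mem_map_conj, ← h1, ← h2, Subgroup.mem_centralizer_singleton_iff,
    Subgroup.mem_centralizer_singleton_iff]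
  constructor
  · intro e
    calc x⁻¹ * n * x * a = x⁻¹ * (n * (x * a * x⁻¹)) * x := by group
      _ = _ := by rw [e]; group
  · intro e
    calc n * (x * a * x⁻¹) = x * (x⁻¹ * n * x * a) * x⁻¹ := by group
      _ = _ := by rw [e]; group

/-- Exceptional tori contain full Sylow subgroups. -/
theorem IsExcTorus.pow_dvd {U : Subgroup (Cfsg.Sz F m)} (hU : IsExcTorus U) {p k : ℕ}
    (hp : p.Prime) (hpU : p ∣ Nat.card U) (hk : p ^ k ∣ Q₁) : p ^ k ∣ Nat.card U := by
  have := Fact.mk hp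
  obtain ⟨a, ha⟩ := exists_prime_orderOf_dvd_card' p hpU
  have ha' : orderOf (a : Cfsg.Sz F m) = p := by rw [Subgroup.orderOf_coe, ha]
  have ha1 : (a : Cfsg.Sz F m) ≠ 1 := fun e => hp.one_lt.ne (by rw [← ha', e, orderOf_one])
  obtain ⟨P, hP⟩ := (IsPGroup.of_card (p := p) (n := 1)
    (show Nat.card (Subgroup.zpowers (a : Cfsg.Sz F m)) = p ^ 1 by
      rw [Nat.card_zpowers, ha', pow_one])).exists_le_sylow
  have := sylow_odd_cyclic h (ne_two_of_dvd h (hpU.trans (card_cyclic_dvd h hU))) P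
  letI : CommGroup P := IsCyclic.commGroup
  have hle : (P : Subgroup (Cfsg.Sz F m)) ≤ U := by
    rw [← hU.centralizer_eq h a.2 ha1]
    intro y hy
    rw [Subgroup.mem_centralizer_singleton_iff]
    exact congrArg Subtype.val (mul_comm (⟨y, hy⟩ : P) ⟨a, hP (Subgroup.mem_zpowers _)⟩)
  refine dvd_trans ?_ (Subgroup.card_dvd_of_le hle)
  have hG : p ^ k ∣ Nat.card (Cfsg.Sz F m) := by
    rw [card_eq_Q h]
    exact hk.trans (dvd_mul_right _ _)
  rw [← Subgroup.index_mul_card (P : Subgroup (Cfsg.Sz F m))] at hG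
  exact (Nat.Coprime.pow_left k ((Nat.Prime.coprime_iff_not_dvd hp).2 P.not_dvd_index)).dvd_of_dvd_mul_left hG

theorem exists_torus {p : ℕ} (hp : p.Prime) (hpQ : p ∣ Q₁) :
    ∃ U : Subgroup (Cfsg.Sz F m), IsExcTorus U ∧ p ∣ Nat.card U := by
  have := Fact.mk hp
  obtain ⟨v, hv⟩ := exists_prime_orderOf_dvd_card' (G := Cfsg.Sz F m) p
    (by rw [card_eq_Q h]; exact hpQ.trans (dvd_mul_right _ _))
  exact ⟨_, ⟨v, p, hp, hpQ, hv, rfl⟩,
    hv ▸ Subgroup.orderOf_dvd_natCard _ (Subgroup.mem_centralizer_singleton_iff.2 rfl)⟩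

/-- The normaliser has order at most four times that of the torus. -/
theorem IsExcTorus.normalizer_card {U : Subgroup (Cfsg.Sz F m)} (hU : IsExcTorus U) :
    ∃ n, 1 ≤ n ∧ n ≤ 4 ∧
      Nat.card (Subgroup.normalizer (U : Set (Cfsg.Sz F m))) = n * Nat.card U := by
  set N := Subgroup.normalizer (U : Set (Cfsg.Sz F m)) with hN
  refine ⟨(U.subgroupOf N).index, Nat.one_le_iff_ne_zero.2 Subgroup.index_ne_zero_of_finite, ?_, ?_⟩
  · have hcy := hU.isCyclic h
    obtain ⟨v, p, hp, hpQ, hv, rfl⟩ := hU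
    have := Fact.mk hp
    have hp2 := ne_two_of_dvd h hpQ
    have hpq : p ∣ Fintype.card F ^ 2 + 1 := by rw [h.card]; exact hpQ
    have hv' : orderOf (v : SL4) = p := by rw [Subgroup.orderOf_coe, hv]
    letI : CommGroup (Subgroup.centralizer {v}) := IsCyclic.commGroup
    set M : Matrix (Fin 4) (Fin 4) F := ((v : SL4) : Matrix (Fin 4) (Fin 4) F) with hM
    have hcoe : ∀ y : Cfsg.Sz F m, ((y : SL4) : Matrix (Fin 4) (Fin 4) F) *
        (((y⁻¹ : Cfsg.Sz F m) : SL4) : Matrix (Fin 4) (Fin 4) F) = 1 := fun y => by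
      rw [← Matrix.SpecialLinearGroup.coe_mul, ← Subgroup.coe_mul, mul_inv_cancel, OneMemClass.coe_one,
        Matrix.SpecialLinearGroup.coe_one]
    let φ : N → {X : matCent (v : SL4) // Polynomial.aeval X M.charpoly = 0} := fun y =>
      ⟨⟨((((y : Cfsg.Sz F m) * v * (y : Cfsg.Sz F m)⁻¹ : Cfsg.Sz F m) : SL4) :
          Matrix (Fin 4) (Fin 4) F), (Subalgebra.mem_centralizer_iff F).2 fun g hg => by
          rw [Set.mem_singleton_iff.1 hg, ← Matrix.SpecialLinearGroup.coe_mul,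
            ← Matrix.SpecialLinearGroup.coe_mul, ← Subgroup.coe_mul, ← Subgroup.coe_mul]
          have hmem : (y : Cfsg.Sz F m) * v * (y : Cfsg.Sz F m)⁻¹ ∈ Subgroup.centralizer {v} :=
            (Subgroup.mem_normalizer_iff.1 y.2 v).1 (Subgroup.mem_centralizer_singleton_iff.2 rfl)
          rw [(Subgroup.mem_centralizer_singleton_iff.1 hmem).symm]⟩, by
        apply Subtype.ext
        refine (Polynomial.aeval_algHom_apply (matCent (v : SL4)).val _ _).symm.trans ?_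
        show Polynomial.aeval _ M.charpoly = 0
        have hchar : Matrix.charpoly ((((y : Cfsg.Sz F m) * v * (y : Cfsg.Sz F m)⁻¹ : Cfsg.Sz F m) :
            SL4) : Matrix (Fin 4) (Fin 4) F) = M.charpoly := by
          rw [mul_assoc, Subgroup.coe_mul, Matrix.SpecialLinearGroup.coe_mul, Matrix.charpoly_mul_comm,
            ← Matrix.SpecialLinearGroup.coe_mul, ← Subgroup.coe_mul, inv_mul_cancel_right]
        rw [← hchar]
        exact Matrix.aeval_self_charpoly _⟩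
    have hinj : Function.Injective fun q : N ⧸ (Subgroup.centralizer {v}).subgroupOf N => φ q.out := by
      intro a b e
      have e1 : ((a.out : N) : Cfsg.Sz F m) * v * ((a.out : N) : Cfsg.Sz F m)⁻¹ =
          ((b.out : N) : Cfsg.Sz F m) * v * ((b.out : N) : Cfsg.Sz F m)⁻¹ := by
        apply Subtype.ext
        apply sl_ext
        intro i j
        exact congrFun (congrFun (congrArg
          (fun X : {X : matCent (v : SL4) // Polynomial.aeval X M.charpoly = 0} =>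
            ((X.1 : matCent (v : SL4)) : Matrix (Fin 4) (Fin 4) F)) e) i) j
      rw [← QuotientGroup.out_eq' a, ← QuotientGroup.out_eq' b, QuotientGroup.eq]
      rw [Subgroup.mem_subgroupOf, Subgroup.mem_centralizer_singleton_iff]
      push_cast
      calc ((a.out : N) : Cfsg.Sz F m)⁻¹ * (b.out : N) * v
          = ((a.out : N) : Cfsg.Sz F m)⁻¹ * (((b.out : N) : Cfsg.Sz F m) * v *
              ((b.out : N) : Cfsg.Sz F m)⁻¹) * (b.out : N) := by group
        _ = _ := by rw [← e1]; group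
    calc (Subgroup.subgroupOf (Subgroup.centralizer {v}) N).index
        = Nat.card (N ⧸ (Subgroup.centralizer {v}).subgroupOf N) := rfl
      _ ≤ Nat.card {X : matCent (v : SL4) // Polynomial.aeval X M.charpoly = 0} :=
          Nat.card_le_card_of_injective _ hinj
      _ ≤ M.charpoly.natDegree :=
          card_roots_le (v : SL4) hp2 hpq hv' (Matrix.charpoly_monic M).ne_zero
      _ = 4 := by rw [Matrix.charpoly_natDegree_eq_dim, Fintype.card_fin]
  · rw [← Nat.card_congr (Subgroup.subgroupOfEquivOfLe (Subgroup.le_normalizer (H := U))).toEquiv]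
    exact (Subgroup.index_mul_card _).symm

/-- The size of the class of a torus. -/
theorem IsExcTorus.card_class {U : Subgroup (Cfsg.Sz F m)} (hU : IsExcTorus U) :
    Nat.card (torusClass U) * Nat.card (Subgroup.normalizer (U : Set (Cfsg.Sz F m))) =
      Nat.card (Cfsg.Sz F m) * (Nat.card U - 1) := by
  classical
  have hx : ∀ g : torusClass U, ∃ x : Cfsg.Sz F m, x⁻¹ * g * x ∈ U := fun g => g.2.2
  choose c hc using hx
  let f : torusClass U × Subgroup.normalizer (U : Set (Cfsg.Sz F m)) →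
      Cfsg.Sz F m × {u : U // u ≠ 1} := fun p =>
    (c p.1 * p.2, ⟨⟨(p.2 : Cfsg.Sz F m)⁻¹ * ((c p.1)⁻¹ * p.1 * c p.1) * p.2, by
      have h1 := (Subgroup.mem_normalizer_iff.1 (inv_mem p.2.2) _).1 (hc p.1)
      simpa using h1⟩, fun e => p.1.2.1 (by
        have e' := congrArg Subtype.val e
        calc (p.1 : Cfsg.Sz F m) = c p.1 * p.2 * ((p.2 : Cfsg.Sz F m)⁻¹ *
              ((c p.1)⁻¹ * p.1 * c p.1) * p.2) * (c p.1 * p.2)⁻¹ := by group
          _ = 1 := by
            simp only at e'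
            rw [e', OneMemClass.coe_one]
            group)⟩)
  have hf : Function.Bijective f := by
    constructor
    · rintro ⟨g, y⟩ ⟨g', y'⟩ e
      simp only [f, Prod.mk.injEq, Subtype.mk.injEq] at e
      obtain ⟨e1, e2⟩ := e
      have hgg : (g : Cfsg.Sz F m) = g' := by
        calc (g : Cfsg.Sz F m) = (c g * y) * ((y : Cfsg.Sz F m)⁻¹ * ((c g)⁻¹ * g * c g) * y) *
              (c g * y)⁻¹ := by group
          _ = g' := by rw [e2, e1]; group
      obtain rfl := Subtype.ext hgg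
      exact Prod.ext rfl (Subtype.ext (mul_left_cancel e1))
    · rintro ⟨x, ⟨u, hu⟩, hu1⟩
      have hu1' : u ≠ 1 := fun e => hu1 (Subtype.ext e)
      let g : torusClass U := ⟨x * u * x⁻¹, by rwa [Ne, conj_eq_one_iff], x, by
        rwa [show x⁻¹ * (x * u * x⁻¹) * x = u by group]⟩
      have hy : (c g)⁻¹ * x ∈ Subgroup.normalizer (U : Set (Cfsg.Sz F m)) := by
        refine hU.mem_normalizer h hu hu1' ?_
        have := hc g
        rwa [show (c g)⁻¹ * (g : Cfsg.Sz F m) * c g = (c g)⁻¹ * x * u * ((c g)⁻¹ * x)⁻¹ by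
          show (c g)⁻¹ * (x * u * x⁻¹) * c g = _
          group] at this
      refine ⟨(g, ⟨_, hy⟩), ?_⟩
      refine Prod.ext ?_ (Subtype.ext (Subtype.ext ?_))
      · show c g * ((c g)⁻¹ * x) = x
        group
      · show ((c g)⁻¹ * x)⁻¹ * ((c g)⁻¹ * (x * u * x⁻¹) * c g) * ((c g)⁻¹ * x) = u
        group
  have hne : Nat.card {u : U // u ≠ 1} = Nat.card U - 1 := by
    rw [Nat.card_eq_fintype_card, Nat.card_eq_fintype_card, Fintype.card_subtype_compl,
      Fintype.card_subtype_eq]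
  rw [← Nat.card_prod, Nat.card_congr (Equiv.ofBijective f hf), Nat.card_prod, hne]

/-- The elements without fixed points. -/
def freeSet (_hyp : SzHyp F m) : Set (Cfsg.Sz F m) :=
  {g | ∀ p ∈ Cfsg.suzukiOvoid F m, g • p ≠ p}

theorem IsExcTorus.class_subset {U : Subgroup (Cfsg.Sz F m)} (hU : IsExcTorus U) :
    torusClass U ⊆ freeSet h := by
  rintro g ⟨hg, x, hx⟩ p hp e
  have hord : orderOf g ∣ Q₁ := by
    refine dvd_trans ?_ (card_cyclic_dvd h hU)
    rw [← MulEquiv.orderOf_eq (MulAut.conj x⁻¹) g]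
    exact Subgroup.orderOf_dvd_natCard _ (by simpa using hx)
  exact fix_false h hg hord hp e

theorem mem_class_of_free {g : Cfsg.Sz F m} (hg : g ∈ freeSet h) :
    ∃ U : Subgroup (Cfsg.Sz F m), IsExcTorus U ∧ g ∈ U := by
  have hg1 : g ≠ 1 := by
    rintro rfl
    exact hg _ pInf_mem (one_smul _ _)
  obtain ⟨p, k, hp, hk⟩ := exists_prime_pow h hg1
  have := Fact.mk hp
  have hgC : g ∈ Subgroup.centralizer {g ^ k} :=
    centralizer_le_pow g k (Subgroup.mem_centralizer_singleton_iff.2 rfl)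
  by_cases hd : p ∣ Q₁
  · exact ⟨_, ⟨_, p, hp, hd, hk, rfl⟩, hgC⟩
  · exfalso
    obtain ⟨pt, hpt, he⟩ := exists_fix_of_prime h hk hd
    have hk1 : g ^ k ≠ 1 := fun e => hp.one_lt.ne (by rw [← hk, e, orderOf_one])
    obtain ⟨x, A, hA, -, hle⟩ := centralizer_fix h hk1 hpt he
    have hAB : A ≤ borel F m := by
      rcases hA with rfl | rfl
      exacts [tGroup_le_borel h, torus_le_borel h]
    exact hg _ (smul_ovoid x.2 pInf_mem) (conj_fix.1 (hAB (mem_map_conj.1 (hle hgC))))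

theorem pair_stab_card {a b : Cfsg.suzukiOvoid F m} (hab : a ≠ b) :
    Nat.card {g : Cfsg.Sz F m // g • a = a ∧ g • b = b} = 2 ^ (2 * m + 1) - 1 := by
  obtain ⟨x, hxa, hxb⟩ := exists_smul_pair h a.2 b.2 (fun e => hab (Subtype.ext e))
  rw [← card_torus h]
  refine Nat.card_congr (Equiv.subtypeEquiv (MulAut.conj x).toEquiv fun g => ?_)
  show (g • a = a ∧ g • b = b) ↔ x * g * x⁻¹ ∈ torus h
  have hf : ∀ p : Cfsg.suzukiOvoid F m, g • p = p ↔
      (x * g * x⁻¹) • (x • (p : Projectivization F (Fin 4 → F))) =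
        x • (p : Projectivization F (Fin 4 → F)) := by
    intro p
    rw [mul_smul, inv_smul_smul, mul_smul, (MulAction.injective x).eq_iff, ← coe_smul_ovoid,
      Subtype.ext_iff]
  constructor
  · rintro ⟨h1, h2⟩
    rw [hf, hxa] at h1
    rw [hf, hxb] at h2
    obtain ⟨k, hk⟩ := exists_dS h h1 h2
    exact ⟨k, hk.symm⟩
  · rintro ⟨k, hk⟩
    rw [hf, hf, hxa, hxb, ← hk]
    exact ⟨dS_smul_pInf h k, dS_smul_p0 h k⟩

theorem free_card :
    2 * Nat.card (freeSet h) + (2 ^ (2 * m + 1)) ^ 2 * ((2 ^ (2 * m + 1)) ^ 2 - 1) =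
      Nat.card (Cfsg.Sz F m) := by
  classical
  set q := 2 ^ (2 * m + 1) with hq
  have hq1 : 1 ≤ q := Nat.one_le_two_pow
  let _ : Fintype (Cfsg.suzukiOvoid F m) := Fintype.ofFinite _
  let _ : Fintype (Cfsg.Sz F m) := Fintype.ofFinite _
  let f : Cfsg.Sz F m → ℤ := fun g =>
    ∑ a : Cfsg.suzukiOvoid F m, if g • a = a then 1 else 0
  have hΩ : (Fintype.card (Cfsg.suzukiOvoid F m) : ℤ) = (q : ℤ) ^ 2 + 1 := by
    rw [← Nat.card_eq_fintype_card, ovoid_card, h.card]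
    push_cast
    simp [hq]
  have hG : (Fintype.card (Cfsg.Sz F m) : ℤ) = ((q : ℤ) ^ 2 + 1) * ((q : ℤ) ^ 2 * ((q : ℤ) - 1)) := by
    rw [← Nat.card_eq_fintype_card, card_eq_Q h, ← hq]
    push_cast [Nat.cast_sub hq1]
    ring
  have hstab : ∀ a : Cfsg.suzukiOvoid F m,
      (∑ g : Cfsg.Sz F m, if g • a = a then (1 : ℤ) else 0) = (q : ℤ) ^ 2 * ((q : ℤ) - 1) := by
    intro a
    obtain ⟨x, hx⟩ := exists_smul_pInf h a.2
    rw [Finset.sum_boole, ← Fintype.card_subtype, ← Nat.card_eq_fintype_card]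
    have : Nat.card {g : Cfsg.Sz F m // g • a = a} =
        Nat.card (MulAction.stabilizer (Cfsg.Sz F m)
          (pInf : Projectivization F (Fin 4 → F))) := by
      refine Nat.card_congr (Equiv.subtypeEquiv (MulAut.conj x⁻¹).toEquiv fun g => ?_)
      show g • a = a ↔ x⁻¹ * g * x⁻¹⁻¹ ∈ _
      rw [inv_inv, MulAction.mem_stabilizer_iff, conj_fix, hx, ← coe_smul_ovoid, Subtype.ext_iff]
    rw [this, card_stab h, ← hq]
    push_cast [Nat.cast_sub hq1]
    ring
  have hsum1 : ∑ g, f g = (Fintype.card (Cfsg.Sz F m) : ℤ) := by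
    rw [Finset.sum_comm, Finset.sum_congr rfl (fun a _ => hstab a), Finset.sum_const,
      Finset.card_univ, nsmul_eq_mul, hΩ, hG]
  have hsum2 : ∑ g, f g ^ 2 = 2 * (Fintype.card (Cfsg.Sz F m) : ℤ) := by
    have e : ∀ g, f g ^ 2 = ∑ a : Cfsg.suzukiOvoid F m, ∑ b : Cfsg.suzukiOvoid F m,
        if g • a = a ∧ g • b = b then 1 else 0 := by
      intro g
      rw [sq, Finset.sum_mul_sum]
      refine Finset.sum_congr rfl fun a _ => Finset.sum_congr rfl fun b _ => ?_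
      simp only [mul_ite, ite_mul, one_mul, zero_mul, mul_one, mul_zero, ite_and]
      split_ifs <;> rfl
    rw [Finset.sum_congr rfl (fun g _ => e g), Finset.sum_comm]
    have inner : ∀ a : Cfsg.suzukiOvoid F m, (∑ g : Cfsg.Sz F m, ∑ b : Cfsg.suzukiOvoid F m,
        if g • a = a ∧ g • b = b then (1 : ℤ) else 0) = 2 * ((q : ℤ) ^ 2 * ((q : ℤ) - 1)) := by
      intro a
      rw [Finset.sum_comm, ← Finset.sum_erase_add _ _ (Finset.mem_univ a),
        Finset.sum_congr rfl (g := fun _ => (q : ℤ) - 1) ?_, Finset.sum_const,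
        Finset.card_erase_of_mem (Finset.mem_univ a), Finset.card_univ, nsmul_eq_mul]
      · simp only [and_self]
        rw [hstab, Nat.cast_sub (Fintype.card_pos_iff.2 ⟨a⟩), hΩ]
        push_cast
        ring
      · intro b hb
        rw [Finset.sum_boole, ← Fintype.card_subtype, ← Nat.card_eq_fintype_card,
          pair_stab_card h (Ne.symm (Finset.ne_of_mem_erase hb)), ← hq]
        push_cast [Nat.cast_sub hq1]
        ring
    rw [Finset.sum_congr rfl (fun a _ => inner a), Finset.sum_const, Finset.card_univ, nsmul_eq_mul,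
      hΩ, hG]
    ring
  have hf2 : ∀ g : Cfsg.Sz F m, g ≠ 1 →
      3 * f g - f g ^ 2 = if g ∈ freeSet h then 0 else 2 := by
    intro g hg
    simp only [f, Finset.sum_boole]
    set S := Finset.univ.filter (fun a : Cfsg.suzukiOvoid F m => g • a = a) with hS
    have hle : S.card ≤ 2 := by
      by_contra hc
      obtain ⟨a, ha, b, hb, c, hc', hab, hac, hbc⟩ := Finset.two_lt_card.1 (not_le.1 hc)
      rw [hS, Finset.mem_filter] at ha hb hc'
      exact hg (eq_one_of_three h a.2 b.2 c.2 (fun e => hab (Subtype.ext e))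
        (fun e => hbc (Subtype.ext e)) (fun e => hac (Subtype.ext e))
        (congrArg Subtype.val ha.2) (congrArg Subtype.val hb.2) (congrArg Subtype.val hc'.2))
    by_cases hfree : g ∈ freeSet h
    · rw [if_pos hfree]
      have : S = ∅ := Finset.filter_eq_empty_iff.2 fun a _ e =>
        hfree a.1 a.2 (congrArg Subtype.val e)
      rw [this, Finset.card_empty]
      norm_num
    · rw [if_neg hfree]
      obtain ⟨p, hp, hfix⟩ : ∃ p ∈ Cfsg.suzukiOvoid F m, g • p = p := by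
        by_contra hc
        exact hfree fun p hp e => hc ⟨p, hp, e⟩
      have hpos : 0 < S.card := Finset.card_pos.2 ⟨⟨p, hp⟩, by
        rw [hS, Finset.mem_filter]; exact ⟨Finset.mem_univ _, Subtype.ext hfix⟩⟩
      interval_cases S.card <;> norm_num
  have hone : f 1 = (q : ℤ) ^ 2 + 1 := by
    simp only [f, one_smul, if_true, Finset.sum_const, Finset.card_univ, nsmul_eq_mul, mul_one, hΩ]
  have hnf1 : (1 : Cfsg.Sz F m) ∉ freeSet h := fun e => e _ pInf_mem (one_smul _ _)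
  have hmain : ∑ g, (3 * f g - f g ^ 2) = (Fintype.card (Cfsg.Sz F m) : ℤ) := by
    rw [Finset.sum_sub_distrib, ← Finset.mul_sum, hsum1, hsum2]
    ring
  rw [← Finset.add_sum_erase _ _ (Finset.mem_univ (1 : Cfsg.Sz F m)), hone,
    Finset.sum_congr rfl (fun g hg => hf2 g (Finset.ne_of_mem_erase hg))] at hmain
  have hcount : ∑ g ∈ Finset.univ.erase (1 : Cfsg.Sz F m), (if g ∈ freeSet h then (0 : ℤ) else 2) =
      2 * (((Fintype.card (Cfsg.Sz F m) : ℤ) - 1) - (Nat.card (freeSet h) : ℤ)) := by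
    have e : ∀ g, (if g ∈ freeSet h then (0 : ℤ) else 2) = 2 - 2 * (if g ∈ freeSet h then 1 else 0) :=
      fun g => by split_ifs <;> norm_num
    rw [Finset.sum_congr rfl (fun g _ => e g), Finset.sum_sub_distrib, Finset.sum_const,
      Finset.card_erase_of_mem (Finset.mem_univ _), Finset.card_univ, nsmul_eq_mul, ← Finset.mul_sum,
      Finset.sum_boole, Nat.cast_sub Fintype.card_pos]
    have : ((Finset.univ.erase (1 : Cfsg.Sz F m)).filter (fun g => g ∈ freeSet h)).card =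
        Nat.card (freeSet h) := by
      rw [Nat.card_eq_fintype_card, ← Set.toFinset_card]
      congr 1
      ext g
      simp only [Finset.mem_filter, Finset.mem_erase, Finset.mem_univ, and_true, Set.mem_toFinset]
      exact ⟨fun e => e.2, fun e => ⟨fun e1 => hnf1 (e1 ▸ e), e⟩⟩
    rw [this]
    push_cast
    ring
  rw [hcount] at hmain
  have hq2 : 1 ≤ q ^ 2 := Nat.one_le_pow _ _ hq1
  rw [Nat.card_eq_fintype_card (α := Cfsg.Sz F m)]
  zify [hq2]
  linear_combination -hmain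

theorem tori_main :
    ∃ U₁ U₂ : Subgroup (Cfsg.Sz F m), IsExcTorus U₁ ∧ IsExcTorus U₂ ∧
      Nat.card U₁ = 2 ^ (2 * m + 1) + 2 ^ (m + 1) + 1 ∧
      Nat.card U₂ = 2 ^ (2 * m + 1) - 2 ^ (m + 1) + 1 ∧
      Nat.card (Subgroup.normalizer (U₁ : Set (Cfsg.Sz F m))) = 4 * Nat.card U₁ ∧
      Nat.card (Subgroup.normalizer (U₂ : Set (Cfsg.Sz F m))) = 4 * Nat.card U₂ ∧
      (∀ U : Subgroup (Cfsg.Sz F m), IsExcTorus U →
        Nat.card U = Nat.card U₁ ∨ Nat.card U = Nat.card U₂) := by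
  classical
  set q := 2 ^ (2 * m + 1) with hq
  have hq8 : 8 ≤ q := by
    calc 8 = 2 ^ 3 := rfl
      _ ≤ q := Nat.pow_le_pow_right (by norm_num) (by have := h.one_le; omega)
  have hcardG := card_eq_Q h
  have hfree := free_card h
  rw [← hq] at hcardG hfree
  set G := Nat.card (Cfsg.Sz F m) with hGdef
  have hG0 : 0 < G := Nat.card_pos
  set E := Nat.card (freeSet h) with hE
  have hconj_class : ∀ {U V : Subgroup (Cfsg.Sz F m)}, IsExcTorus U → IsExcTorus V →
      ∀ {g}, g ∈ torusClass V → ∀ {p : ℕ}, p.Prime → p ∣ Nat.card U → p ∣ Nat.card V →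
        g ∈ torusClass U := by
    intro U V hU hV g hg p hp h1 h2
    obtain ⟨x, rfl⟩ := hU.conj_of_dvd h hV hp h1 h2
    obtain ⟨hg1, y, hy⟩ := hg
    refine ⟨hg1, y * x, ?_⟩
    have := mem_map_conj.1 hy
    rwa [show (y * x)⁻¹ * g * (y * x) = x⁻¹ * (y⁻¹ * g * y) * x by group]
  -- disjointness of classes
  have hdisj : ∀ {U V : Subgroup (Cfsg.Sz F m)}, IsExcTorus U → IsExcTorus V →
      Nat.Coprime (Nat.card U) (Nat.card V) → Disjoint (torusClass U) (torusClass V) := by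
    intro U V hU hV hco
    rw [Set.disjoint_left]
    rintro g ⟨hg, x, hx⟩ ⟨-, y, hy⟩
    have h1 := Subgroup.orderOf_dvd_natCard _ hx
    have h2 := Subgroup.orderOf_dvd_natCard _ hy
    rw [show x⁻¹ * g * x = MulAut.conj x⁻¹ g by simp, MulEquiv.orderOf_eq] at h1
    rw [show y⁻¹ * g * y = MulAut.conj y⁻¹ g by simp, MulEquiv.orderOf_eq] at h2
    exact hg (orderOf_eq_one_iff.1 (Nat.dvd_one.1 (hco ▸ Nat.dvd_gcd h1 h2)))
  -- a class has at least a fifth of the group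
  have hbig : ∀ {U : Subgroup (Cfsg.Sz F m)}, IsExcTorus U → G ≤ 5 * Nat.card (torusClass U) := by
    intro U hU
    obtain ⟨n, hn1, hn4, hN⟩ := hU.normalizer_card h
    have h1 := hU.card_class h
    rw [hN, ← hGdef] at h1
    have h5 := hU.five_le h
    obtain ⟨k, hk⟩ := Nat.exists_eq_add_of_le h5
    rw [hk] at h1
    have h2 : 5 + k - 1 = 4 + k := by omega
    rw [h2] at h1
    by_contra hcon
    rw [not_le] at hcon
    have h3 : Nat.card (torusClass U) * (n * (5 + k)) ≤ Nat.card (torusClass U) * (4 * (5 + k)) :=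
      Nat.mul_le_mul_left _ (Nat.mul_le_mul_right _ hn4)
    nlinarith
  -- the first torus
  obtain ⟨p₁, hp₁, hp₁Q⟩ := Nat.exists_prime_and_dvd (n := q ^ 2 + 1) (by nlinarith)
  obtain ⟨U₁, hU₁, hp₁U⟩ := exists_torus h hp₁ hp₁Q
  have hd₁ : Nat.card U₁ ∣ q ^ 2 + 1 := card_cyclic_dvd h hU₁
  obtain ⟨n₁, hn₁, hn₁4, hN₁⟩ := hU₁.normalizer_card h
  have hc₁ := hU₁.card_class h
  rw [hN₁, ← hGdef] at hc₁
  -- a second prime
  obtain ⟨p₂, hp₂, hp₂Q, hp₂U⟩ : ∃ p : ℕ, p.Prime ∧ p ∣ q ^ 2 + 1 ∧ ¬ p ∣ Nat.card U₁ := by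
    by_contra hcon
    push Not at hcon
    have hk : Nat.card U₁ = q ^ 2 + 1 := by
      refine Nat.dvd_antisymm hd₁ ((Nat.dvd_iff_prime_pow_dvd_dvd _ _).2 fun p k hp hpk => ?_)
      rcases Nat.eq_zero_or_pos k with rfl | hk
      · simp
      · exact hU₁.pow_dvd h hp (hcon p hp ((dvd_pow_self p hk.ne').trans hpk)) hpk
    have hE1 : E = Nat.card (torusClass U₁) := by
      rw [hE]
      congr 2
      refine Set.Subset.antisymm (fun g hg => ?_) (hU₁.class_subset h)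
      obtain ⟨U, hU, hgU⟩ := mem_class_of_free h hg
      obtain ⟨p, hp, hpU⟩ := Nat.exists_prime_and_dvd (n := Nat.card U)
        (by have := hU.five_le h; omega)
      refine hconj_class hU₁ hU ⟨?_, 1, by simpa using hgU⟩ hp
        (hcon p hp (hpU.trans (card_cyclic_dvd h hU))) hpU
      rintro rfl
      exact hg _ pInf_mem (one_smul _ _)
    rw [← hE1, hk] at hc₁
    have e1 : q ^ 2 + 1 - 1 = q ^ 2 := Nat.add_sub_cancel _ _
    rw [e1] at hc₁
    obtain ⟨r, hr⟩ : ∃ r, q = r + 1 := ⟨q - 1, by omega⟩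
    have e2 : q - 1 = r := by omega
    have e3 : q ^ 2 - 1 = r * (r + 2) := by
      have e4 : q ^ 2 = r * (r + 2) + 1 := by rw [hr]; ring
      omega
    rw [e2] at hcardG
    rw [e3] at hfree
    have key : n₁ * r = 2 * (r + 1) := by
      have hz : ((q : ℤ) ^ 2 + 1) * (q : ℤ) ^ 3 * r * ((n₁ : ℤ) * r - 2 * (r + 1)) = 0 := by
        zify at hfree hc₁ hcardG
        have hr' : (q : ℤ) = r + 1 := by exact_mod_cast hr
        rw [hr'] at hfree hc₁ hcardG ⊢
        linear_combination (-(n₁ : ℤ) * (((r : ℤ) + 1) ^ 2 + 1)) * hfree + 2 * hc₁ +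
          (-((n₁ : ℤ) * (((r : ℤ) + 1) ^ 2 + 1)) + 2 * ((r : ℤ) + 1) ^ 2) * hcardG
      have hne : ((q : ℤ) ^ 2 + 1) * (q : ℤ) ^ 3 * r ≠ 0 := by
        have hq0 : (0 : ℤ) < q := by exact_mod_cast (by omega : 0 < q)
        have hr0 : (0 : ℤ) < r := by exact_mod_cast (by omega : 0 < r)
        positivity
      have := (mul_eq_zero.1 hz).resolve_left hne
      exact_mod_cast (sub_eq_zero.1 this)
    interval_cases n₁ <;> omega
  obtain ⟨U₂, hU₂, hp₂U₂⟩ := exists_torus h hp₂ hp₂Q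
  have hd₂ : Nat.card U₂ ∣ q ^ 2 + 1 := card_cyclic_dvd h hU₂
  obtain ⟨n₂, hn₂, hn₂4, hN₂⟩ := hU₂.normalizer_card h
  have hc₂ := hU₂.card_class h
  rw [hN₂, ← hGdef] at hc₂
  have hno : ∀ r : ℕ, r.Prime → r ∣ Nat.card U₁ → r ∣ Nat.card U₂ → False := by
    intro r hr h1 h2
    obtain ⟨x, hx⟩ := hU₁.conj_of_dvd h hU₂ hr h1 h2
    apply hp₂U
    rwa [hx, Subgroup.card_map_of_injective (MulAut.conj x).injective] at hp₂U₂
  have hco : Nat.Coprime (Nat.card U₁) (Nat.card U₂) :=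
    Nat.coprime_of_dvd fun r hr h1 h2 => hno r hr h1 h2
  have hthird : ∀ p : ℕ, p.Prime → p ∣ q ^ 2 + 1 → p ∣ Nat.card U₁ ∨ p ∣ Nat.card U₂ := by
    intro p hp hpQ
    by_contra hcon
    rw [not_or] at hcon
    obtain ⟨U₃, hU₃, hpU₃⟩ := exists_torus h hp hpQ
    have hco' : ∀ {V : Subgroup (Cfsg.Sz F m)}, IsExcTorus V → ¬ p ∣ Nat.card V →
        Nat.Coprime (Nat.card V) (Nat.card U₃) := by
      intro V hV hpV
      refine Nat.coprime_of_dvd fun r hr h1 h2 => hpV ?_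
      obtain ⟨x, hx⟩ := hV.conj_of_dvd h hU₃ hr h1 h2
      rwa [hx, Subgroup.card_map_of_injective (MulAut.conj x).injective] at hpU₃
    have hd12 := hdisj hU₁ hU₂ hco
    have hd3 : Disjoint (torusClass U₁ ∪ torusClass U₂) (torusClass U₃) :=
      Disjoint.union_left (hdisj hU₁ hU₃ (hco' hU₁ hcon.1)) (hdisj hU₂ hU₃ (hco' hU₂ hcon.2))
    have hsub : (torusClass U₁ ∪ torusClass U₂) ∪ torusClass U₃ ⊆ freeSet h :=
      Set.union_subset (Set.union_subset (hU₁.class_subset h) (hU₂.class_subset h))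
        (hU₃.class_subset h)
    have hle := Set.ncard_le_ncard hsub (Set.toFinite _)
    rw [Set.ncard_union_eq hd3 (Set.toFinite _) (Set.toFinite _),
      Set.ncard_union_eq hd12 (Set.toFinite _) (Set.toFinite _)] at hle
    simp only [← Nat.card_coe_set_eq] at hle
    rw [← hE] at hle
    have b1 := hbig hU₁
    have b2 := hbig hU₂
    have b3 := hbig hU₃
    omega
  have hk12 : Nat.card U₁ * Nat.card U₂ = q ^ 2 + 1 := by
    refine Nat.dvd_antisymm (hco.mul_dvd_of_dvd_of_dvd hd₁ hd₂)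
      ((Nat.dvd_iff_prime_pow_dvd_dvd _ _).2 fun p k hp hpk => ?_)
    rcases Nat.eq_zero_or_pos k with rfl | hk
    · simp
    · rcases hthird p hp ((dvd_pow_self p hk.ne').trans hpk) with h1 | h1
      · exact (hU₁.pow_dvd h hp h1 hpk).trans (dvd_mul_right _ _)
      · exact (hU₂.pow_dvd h hp h1 hpk).trans (dvd_mul_left _ _)
  have hE12 : E = Nat.card (torusClass U₁) + Nat.card (torusClass U₂) := by
    rw [hE, Nat.card_coe_set_eq, Nat.card_coe_set_eq, Nat.card_coe_set_eq,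
      ← Set.ncard_union_eq (hdisj hU₁ hU₂ hco) (Set.toFinite _) (Set.toFinite _)]
    congr 1
    refine Set.Subset.antisymm (fun g hg => ?_)
      (Set.union_subset (hU₁.class_subset h) (hU₂.class_subset h))
    obtain ⟨U, hU, hgU⟩ := mem_class_of_free h hg
    obtain ⟨p, hp, hpU⟩ := Nat.exists_prime_and_dvd (n := Nat.card U)
      (by have := hU.five_le h; omega)
    have hgc : g ∈ torusClass U := by
      refine ⟨?_, 1, by simpa using hgU⟩
      rintro rfl
      exact hg _ pInf_mem (one_smul _ _)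
    rcases hthird p hp (hpU.trans (card_cyclic_dvd h hU)) with h1 | h1
    · exact Or.inl (hconj_class hU₁ hU hgc hp h1 hpU)
    · exact Or.inr (hconj_class hU₂ hU hgc hp h1 hpU)
  have h5₁ := hU₁.five_le h
  have h5₂ := hU₂.five_le h
  -- pass to integers and solve
  obtain ⟨k₁, hk₁⟩ : ∃ k : ℤ, k = (Nat.card U₁ : ℤ) := ⟨_, rfl⟩
  obtain ⟨k₂, hk₂⟩ : ∃ k : ℤ, k = (Nat.card U₂ : ℤ) := ⟨_, rfl⟩
  have hq2 : 1 ≤ q ^ 2 := Nat.one_le_pow _ _ (by omega)
  zify [show 1 ≤ Nat.card U₁ by omega, show 1 ≤ Nat.card U₂ by omega, hq2,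
    show 1 ≤ q by omega] at hcardG hfree hc₁ hc₂ hk12 hE12
  rw [← hk₁, ← hk₂] at hk12
  rw [← hk₁] at hc₁
  rw [← hk₂] at hc₂
  obtain ⟨Q, hQ⟩ : ∃ Q : ℤ, Q = (q : ℤ) := ⟨_, rfl⟩
  rw [← hQ] at hcardG hfree hk12
  have hQ8 : 8 ≤ Q := by rw [hQ]; exact_mod_cast hq8
  have hk₁5 : 5 ≤ k₁ := by rw [hk₁]; exact_mod_cast h5₁
  have hk₂5 : 5 ≤ k₂ := by rw [hk₂]; exact_mod_cast h5₂
  have hmain : 2 * ((k₁ - 1) * k₂ * (n₂ : ℤ) + (k₂ - 1) * k₁ * (n₁ : ℤ)) =
      (n₁ : ℤ) * n₂ * (Q * (Q - 1)) := by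
    have hG0' : (G : ℤ) ≠ 0 := by exact_mod_cast hG0.ne'
    apply mul_left_cancel₀ hG0'
    linear_combination (-2 * k₂ * (n₂ : ℤ)) * hc₁ + (-2 * k₁ * (n₁ : ℤ)) * hc₂ +
      (n₁ : ℤ) * n₂ * (2 * ((Nat.card (torusClass U₁) : ℤ) + Nat.card (torusClass U₂))) * hk12 +
      (-(n₁ : ℤ) * n₂ * (2 * (Q ^ 2 + 1))) * hE12 +
      ((n₁ : ℤ) * n₂ * (Q ^ 2 + 1)) * hfree + ((n₁ : ℤ) * n₂ * (Q + 1)) * hcardG
  have hfour : n₁ = 4 ∧ n₂ = 4 := by
    have hs : 5 * (k₁ + k₂) ≤ 25 + (Q ^ 2 + 1) := by nlinarith [mul_nonneg (sub_nonneg.2 hk₁5) (sub_nonneg.2 hk₂5)]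
    have hQQ : 8 * Q ≤ Q ^ 2 := by nlinarith
    interval_cases n₁ <;> interval_cases n₂ <;>
      first
        | exact ⟨rfl, rfl⟩
        | (exfalso; push_cast at hmain; linarith)
  obtain ⟨rfl, rfl⟩ := hfour
  push_cast at hmain
  have hsum : k₁ + k₂ = 2 * (Q + 1) := by
    have h8 : 8 * (k₁ + k₂) = 8 * (2 * (Q + 1)) := by linear_combination -hmain + 16 * hk12
    linarith
  obtain ⟨s, hs⟩ : ∃ s : ℕ, s = 2 ^ (m + 1) := ⟨_, rfl⟩
  have hs2 : (s : ℤ) ^ 2 = 2 * Q := by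
    rw [hs, hQ, hq]; push_cast; ring
  have hsol : (k₁ - (Q + 1) - s) * (k₁ - (Q + 1) + s) = 0 := by
    linear_combination k₁ * hsum - hk12 - hs2
  have hsle : s ≤ q := by
    rw [hs, hq]; exact Nat.pow_le_pow_right (by norm_num) (by omega)
  have hcover : ∀ {A B : Subgroup (Cfsg.Sz F m)}, IsExcTorus A → IsExcTorus B →
      (∀ p : ℕ, p.Prime → p ∣ q ^ 2 + 1 → p ∣ Nat.card A ∨ p ∣ Nat.card B) →
      ∀ U : Subgroup (Cfsg.Sz F m), IsExcTorus U →
        Nat.card U = Nat.card A ∨ Nat.card U = Nat.card B := by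
    intro A B hA hB hAB U hU
    obtain ⟨p, hp, hpU⟩ := Nat.exists_prime_and_dvd (n := Nat.card U)
      (by have := hU.five_le h; omega)
    rcases hAB p hp (hpU.trans (card_cyclic_dvd h hU)) with h1 | h1
    · obtain ⟨x, hx⟩ := hA.conj_of_dvd h hU hp h1 hpU
      left; rw [hx, Subgroup.card_map_of_injective (MulAut.conj x).injective]
    · obtain ⟨x, hx⟩ := hB.conj_of_dvd h hU hp h1 hpU
      right; rw [hx, Subgroup.card_map_of_injective (MulAut.conj x).injective]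
  rw [← hs]
  rcases mul_eq_zero.1 hsol with hr | hr
  · refine ⟨U₁, U₂, hU₁, hU₂, ?_, ?_, hN₁, hN₂, hcover hU₁ hU₂ hthird⟩
    · zify; rw [← hk₁, ← hQ]; linear_combination hr
    · zify [hsle]; rw [← hk₂, ← hQ]; linear_combination hsum - hr
  · refine ⟨U₂, U₁, hU₂, hU₁, ?_, ?_, hN₂, hN₁,
      hcover hU₂ hU₁ fun p hp hpQ => (hthird p hp hpQ).symm⟩
    · zify; rw [← hk₂, ← hQ]; linear_combination hsum - hr
    · zify [hsle]; rw [← hk₁, ← hQ]; linear_combination hr

theorem exceptional_cyclic :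
    ∀ k ∈ ({2 ^ (2 * m + 1) + 2 ^ (m + 1) + 1, 2 ^ (2 * m + 1) - 2 ^ (m + 1) + 1} : Set ℕ),
      ∃ U : Subgroup (Cfsg.Sz F m), IsCyclic U ∧ Nat.card U = k ∧
        (∀ u ∈ U, u ≠ 1 → Subgroup.centralizer {u} = U) ∧
        Nat.card (Subgroup.normalizer (U : Set (Cfsg.Sz F m))) = 4 * k := by
  obtain ⟨U₁, U₂, hU₁, hU₂, hk₁, hk₂, hN₁, hN₂, -⟩ := tori_main h
  intro k hk
  rcases hk with rfl | rfl
  · exact ⟨U₁, hU₁.isCyclic h, hk₁, fun u hu hu1 => hU₁.centralizer_eq h hu hu1, hk₁ ▸ hN₁⟩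
  · exact ⟨U₂, hU₂.isCyclic h, hk₂, fun u hu hu1 => hU₂.centralizer_eq h hu hu1, hk₂ ▸ hN₂⟩

end CfsgLib.Suzuki
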