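import Mathlib
import Cfsg.Prelude.Def_LieExceptional
import Cfsg.Agent.Lib.Suzuki.Tori

/-!
The partition of `Cfsg.Sz F m` into Sylow 2-subgroups and cyclic tori.
-/

set_option autoImplicit false

namespace CfsgLib.Suzuki

open Matrix
open scoped Pointwise

variable {F : Type*} [Field F] [Fintype F] {m : ℕ}

local notation "Pt" => Projectivization F (Fin 4 → F)
local notation "Q₁" => (2 ^ (2 * m + 1)) ^ 2 + 1

variable (h : SzHyp F m)
include h

theorem centralizer_conj_dS {x : Cfsg.Sz F m} {k : Fˣ} (hk : k ≠ 1) {y : Cfsg.Sz F m}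
    (hy : y * (x * dS h k * x⁻¹) = x * dS h k * x⁻¹ * y) :
    y ∈ (torus h).map (MulAut.conj x).toMonoidHom := by
  refine mem_map_conj.2 (centralizer_dS h hk ?_)
  calc dS h k * (x⁻¹ * y * x) = x⁻¹ * (x * dS h k * x⁻¹ * y) * x := by group
    _ = x⁻¹ * (y * (x * dS h k * x⁻¹)) * x := by rw [hy]
    _ = _ := by group

/-- A cyclic subgroup of order `q - 1` is a conjugate of the torus. -/
theorem eq_conj_torus {U : Subgroup (Cfsg.Sz F m)} (hU : IsCyclic U)
    (hcard : Nat.card U = 2 ^ (2 * m + 1) - 1) :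
    ∃ x : Cfsg.Sz F m, U = (torus h).map (MulAut.conj x).toMonoidHom := by
  have h4 := h.four_lt_card
  rw [h.card] at h4
  obtain ⟨p, hp, hpd⟩ := Nat.exists_prime_and_dvd (n := Nat.card U) (by omega)
  have := Fact.mk hp
  obtain ⟨v, hv⟩ := exists_prime_orderOf_dvd_card' p hpd
  have hv' : orderOf (v : Cfsg.Sz F m) = p := by rw [Subgroup.orderOf_coe, hv]
  rw [hcard] at hpd
  have hpQ : ¬ p ∣ Q₁ := fun hq => hp.one_lt.ne (Nat.dvd_one.1
    ((coprime_Q h) ▸ Nat.dvd_gcd hq (hpd.trans (dvd_mul_left _ _)))).symm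
  have hp2 : p ≠ 2 := by
    rintro rfl
    have h2 : 2 ∣ 2 ^ (2 * m + 1) := dvd_pow_self 2 (by omega)
    omega
  obtain ⟨pt, hpt, he⟩ := exists_fix_of_prime h hv' hpQ
  obtain ⟨x, hx | ⟨k, hk, hx⟩⟩ := exists_normal_form h hpt he
  · exfalso
    obtain ⟨a, ha⟩ := IsPGroup.iff_orderOf.1 (isPGroup_tGroup h) ⟨_, hx⟩
    rw [Subgroup.orderOf_mk, show x⁻¹ * (v : Cfsg.Sz F m) * x = MulAut.conj x⁻¹ (v : Cfsg.Sz F m)
      by simp, MulEquiv.orderOf_eq, hv'] at ha
    exact hp2 ((Nat.prime_dvd_prime_iff_eq hp Nat.prime_two).1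
      (hp.dvd_of_dvd_pow (dvd_of_eq ha)))
  · refine ⟨x, Subgroup.eq_of_le_of_card_ge ?_ ?_⟩
    · intro y hy
      refine centralizer_conj_dS h hk ?_
      letI : CommGroup U := IsCyclic.commGroup
      have hvx : x * dS h k * x⁻¹ = (v : Cfsg.Sz F m) := by rw [← hx]; group
      rw [hvx]
      exact congrArg Subtype.val (mul_comm (⟨y, hy⟩ : U) v)
    · rw [Subgroup.card_map_of_injective (MulAut.conj x).injective, card_torus h, hcard]

theorem eq_exc_torus {U : Subgroup (Cfsg.Sz F m)} (hU : IsCyclic U)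
    (hcard : Nat.card U = 2 ^ (2 * m + 1) + 2 ^ (m + 1) + 1 ∨
      Nat.card U = 2 ^ (2 * m + 1) - 2 ^ (m + 1) + 1) : IsExcTorus U := by
  obtain ⟨U₁, U₂, hU₁, hU₂, hk₁, hk₂, -, -, hall⟩ := tori_main h
  have hdvd : Nat.card U ∣ Q₁ := by
    rcases hcard with e | e <;> rw [e]
    · rw [← hk₁]; exact card_cyclic_dvd h hU₁
    · rw [← hk₂]; exact card_cyclic_dvd h hU₂
  have hbig : 5 ≤ Nat.card U := by
    rcases hcard with e | e <;> rw [e]
    · rw [← hk₁]; exact hU₁.five_le h
    · rw [← hk₂]; exact hU₂.five_le h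
  have hne : Nat.card U₁ ≠ Nat.card U₂ := by
    rw [hk₁, hk₂]
    have : 0 < 2 ^ (m + 1) := by positivity
    omega
  obtain ⟨p, hp, hpd⟩ := Nat.exists_prime_and_dvd (n := Nat.card U) (by omega)
  have := Fact.mk hp
  obtain ⟨v, hv⟩ := exists_prime_orderOf_dvd_card' p hpd
  have hv' : orderOf (v : Cfsg.Sz F m) = p := by rw [Subgroup.orderOf_coe, hv]
  have hT : IsExcTorus (Subgroup.centralizer {(v : Cfsg.Sz F m)}) :=
    ⟨_, p, hp, hpd.trans hdvd, hv', rfl⟩
  have hle : U ≤ Subgroup.centralizer {(v : Cfsg.Sz F m)} := by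
    intro y hy
    letI : CommGroup U := IsCyclic.commGroup
    rw [Subgroup.mem_centralizer_singleton_iff]
    exact congrArg Subtype.val (mul_comm (⟨y, hy⟩ : U) v)
  have hd := Subgroup.card_dvd_of_le hle
  suffices Nat.card (Subgroup.centralizer {(v : Cfsg.Sz F m)}) ≤ Nat.card U by
    rw [Subgroup.eq_of_le_of_card_ge hle this]
    exact hT
  have hle' := Nat.le_of_dvd Nat.card_pos hd
  rcases hall _ hT with e' | e'
  · rcases hcard with e | e
    · rw [e', hk₁, e]
    · exfalso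
      rw [e, e', hk₁] at hd
      rw [e] at hbig
      obtain ⟨s, hs⟩ : ∃ s, s = 2 ^ (m + 1) := ⟨_, rfl⟩
      obtain ⟨q, hq⟩ : ∃ q, q = 2 ^ (2 * m + 1) := ⟨_, rfl⟩
      have hsq : s ≤ q := by
        rw [hs, hq]; exact Nat.pow_le_pow_right (by norm_num) (by omega)
      have h2 : 2 ∣ s := by rw [hs]; exact dvd_pow_self 2 (by omega)
      have h3 : 2 ∣ q := by rw [hq]; exact dvd_pow_self 2 (by omega)
      rw [← hs, ← hq] at hd hbig
      have hdiff : q - s + 1 ∣ 2 ^ (m + 2) := by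
        have h4 := Nat.dvd_sub hd (dvd_refl (q - s + 1))
        rwa [show q + s + 1 - (q - s + 1) = 2 ^ (m + 2) by rw [pow_succ, ← hs]; omega] at h4
      obtain ⟨i, -, hi⟩ := (Nat.dvd_prime_pow Nat.prime_two).1 hdiff
      rcases Nat.eq_zero_or_pos i with rfl | hi0
      · rw [pow_zero] at hi
        omega
      · have h5 : 2 ∣ 2 ^ i := dvd_pow_self 2 (by omega)
        omega
  · rcases hcard with e | e
    · rw [e', hk₂, e]
      exact Nat.add_le_add_right ((Nat.sub_le _ _).trans (Nat.le_add_right _ _)) 1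
    · rw [e', hk₂, e]

theorem partition_mem (g : Cfsg.Sz F m) (hg : g ≠ 1) :
    ∃! U : Subgroup (Cfsg.Sz F m),
      ((∃ P : Sylow 2 (Cfsg.Sz F m), U = (P : Subgroup (Cfsg.Sz F m))) ∨
      (IsCyclic U ∧ Nat.card U ∈ ({2 ^ (2 * m + 1) - 1, 2 ^ (2 * m + 1) + 2 ^ (m + 1) + 1,
        2 ^ (2 * m + 1) - 2 ^ (m + 1) + 1} : Set ℕ))) ∧ g ∈ U := by
  by_cases hfree : g ∈ freeSet h
  · obtain ⟨U, hU, hgU⟩ := mem_class_of_free h hfree
    refine ⟨U, ⟨Or.inr ⟨hU.isCyclic h, ?_⟩, hgU⟩, ?_⟩
    · obtain ⟨U₁, U₂, -, -, hk₁, hk₂, -, -, hall⟩ := tori_main h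
      rcases hall U hU with e | e <;> rw [e]
      · exact Or.inr (Or.inl hk₁)
      · exact Or.inr (Or.inr hk₂)
    · rintro V ⟨hV | ⟨hVc, hV⟩, hgV⟩
      · exfalso
        obtain ⟨P, rfl⟩ := hV
        obtain ⟨x, hx⟩ := exists_map_tGroup h P
        rw [hx, mem_map_conj] at hgV
        exact hfree _ (smul_ovoid x.2 pInf_mem) (conj_fix.1 (tGroup_le_borel h hgV))
      · rcases hV with hV | hV
        · exfalso
          obtain ⟨x, hx⟩ := eq_conj_torus h hVc hV
          rw [hx, mem_map_conj] at hgV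
          exact hfree _ (smul_ovoid x.2 pInf_mem) (conj_fix.1 (torus_le_borel h hgV))
        · have hV' := eq_exc_torus h hVc hV
          rw [← hV'.centralizer_eq h hgV hg, ← hU.centralizer_eq h hgU hg]
  · obtain ⟨p, hp, he⟩ : ∃ p ∈ Cfsg.suzukiOvoid F m, g • p = p := by
      by_contra hc
      exact hfree fun p hp e => hc ⟨p, hp, e⟩
    have hnotexc : ∀ V : Subgroup (Cfsg.Sz F m), IsExcTorus V → g ∈ V → False := fun V hV hgV =>
      (hV.class_subset h ⟨hg, 1, by simpa using hgV⟩) p hp he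
    obtain ⟨x, hx | ⟨k, hk, hx⟩⟩ := exists_normal_form h hp he
    · have hne : x⁻¹ * g * x ≠ 1 := fun e => hg (by
        calc g = x * (x⁻¹ * g * x) * x⁻¹ := by group
          _ = 1 := by rw [e]; group)
      refine ⟨((x • tSylow h : Sylow 2 (Cfsg.Sz F m)) : Subgroup (Cfsg.Sz F m)),
        ⟨Or.inl ⟨_, rfl⟩, mem_map_conj.2 hx⟩, ?_⟩
      rintro V ⟨hV | ⟨hVc, hV⟩, hgV⟩
      · obtain ⟨P, rfl⟩ := hV
        obtain ⟨y, hy⟩ := exists_map_tGroup h P
        rw [hy, mem_map_conj] at hgV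
        have e1 : g • (y • (pInf : Pt)) = y • (pInf : Pt) :=
          conj_fix.1 (tGroup_le_borel h hgV)
        have e2 : x⁻¹ • (y • (pInf : Pt)) = pInf := by
          refine tS_fixed h hx hne (smul_ovoid (x⁻¹).2 (smul_ovoid y.2 pInf_mem)) ?_
          change (x⁻¹ * g * x) • (x⁻¹ • (y • (pInf : Pt))) = x⁻¹ • (y • (pInf : Pt))
          rw [mul_smul, mul_smul, smul_inv_smul, e1]
        rw [← mul_smul] at e2
        obtain ⟨a, b, j, hj⟩ := exists_tS_dS h e2
        rw [hy]
        show (tGroup h).map (MulAut.conj y).toMonoidHom = (tGroup h).map (MulAut.conj x).toMonoidHom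
        have hB : x⁻¹ * y ∈ Subgroup.normalizer (tGroup h : Set (Cfsg.Sz F m)) := by
          rw [normalizer_tGroup h]; exact e2
        ext n
        rw [mem_map_conj, mem_map_conj, Subgroup.mem_normalizer_iff.1 hB,
          show x⁻¹ * y * (y⁻¹ * n * y) * (x⁻¹ * y)⁻¹ = x⁻¹ * n * x by group]
      · exfalso
        rcases hV with hV | hV
        · obtain ⟨y, hy⟩ := eq_conj_torus h hVc hV
          rw [hy] at hgV
          obtain ⟨t, ⟨j, rfl⟩, ht⟩ := hgV
          have hj : j ≠ 1 := by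
            rintro rfl
            exact hg (by rw [← ht]; simp [map_one])
          have hgy : g = y * dS h j * y⁻¹ := ht.symm
          have e1 : g • (y • (pInf : Pt)) = y • (pInf : Pt) :=
            conj_fix.1 (by
              rw [show y⁻¹ * g * y = dS h j by rw [hgy]; group]
              exact dS_smul_pInf h j)
          have e2 : g • (y • pAff m (0 : F) 0) = y • pAff m (0 : F) 0 :=
            conj_fix.1 (by
              rw [show y⁻¹ * g * y = dS h j by rw [hgy]; group]
              exact dS_smul_p0 h j)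
          have key : ∀ q : Pt, q ∈ Cfsg.suzukiOvoid F m → g • q = q → x⁻¹ • q = pInf := by
            intro q hq hqe
            refine tS_fixed h hx hne (smul_ovoid (x⁻¹).2 hq) ?_
            change (x⁻¹ * g * x) • (x⁻¹ • q) = x⁻¹ • q
            rw [mul_smul, mul_smul, smul_inv_smul, hqe]
          have := (key _ (smul_ovoid y.2 pInf_mem) e1).trans
            (key _ (smul_ovoid y.2 (pAff_mem _ _)) e2).symm
          exact pAff_ne_pInf _ _ (MulAction.injective (y : SpecialLinearGroup (Fin 4) F)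
            (MulAction.injective x⁻¹ this)).symm
        · exact hnotexc V (eq_exc_torus h hVc hV) hgV
    · have hgx : x * dS h k * x⁻¹ = g := by rw [← hx]; group
      refine ⟨(torus h).map (MulAut.conj x).toMonoidHom, ⟨Or.inr ⟨?_, ?_⟩, ?_⟩, ?_⟩
      · exact ((torus h).equivMapOfInjective _ (MulAut.conj x).injective).isCyclic.1 (isCyclic_torus h)
      · exact Or.inl ((Subgroup.card_map_of_injective (MulAut.conj x).injective).trans (card_torus h))
      · exact mem_map_conj.2 (by rw [hx]; exact ⟨k, rfl⟩)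
      rintro V ⟨hV | ⟨hVc, hV⟩, hgV⟩
      · exfalso
        obtain ⟨P, rfl⟩ := hV
        obtain ⟨y, hy⟩ := exists_map_tGroup h P
        rw [hy, mem_map_conj] at hgV
        have hne : y⁻¹ * g * y ≠ 1 := fun e => hg (by
          calc g = y * (y⁻¹ * g * y) * y⁻¹ := by group
            _ = 1 := by rw [e]; group)
        have key : ∀ q : Pt, q ∈ Cfsg.suzukiOvoid F m → g • q = q → y⁻¹ • q = pInf := by
          intro q hq hqe
          refine tS_fixed h hgV hne (smul_ovoid (y⁻¹).2 hq) ?_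
          change (y⁻¹ * g * y) • (y⁻¹ • q) = y⁻¹ • q
          rw [mul_smul, mul_smul, smul_inv_smul, hqe]
        have e1 : g • (x • (pInf : Pt)) = x • (pInf : Pt) :=
          conj_fix.1 (by rw [hx]; exact dS_smul_pInf h k)
        have e2 : g • (x • pAff m (0 : F) 0) = x • pAff m (0 : F) 0 :=
          conj_fix.1 (by rw [hx]; exact dS_smul_p0 h k)
        have := (key _ (smul_ovoid x.2 pInf_mem) e1).trans
          (key _ (smul_ovoid x.2 (pAff_mem _ _)) e2).symm
        exact pAff_ne_pInf _ _ (MulAction.injective (x : SpecialLinearGroup (Fin 4) F)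
          (MulAction.injective y⁻¹ this)).symm
      · rcases hV with hV | hV
        · refine Subgroup.eq_of_le_of_card_ge (fun z hz => ?_) ?_
          · refine centralizer_conj_dS h hk ?_
            rw [hgx]
            letI : CommGroup V := IsCyclic.commGroup
            exact congrArg Subtype.val (mul_comm (⟨z, hz⟩ : V) ⟨g, hgV⟩)
          · rw [Subgroup.card_map_of_injective (MulAut.conj x).injective, card_torus h, hV]
        · exact (hnotexc V (eq_exc_torus h hVc hV) hgV).elim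

end CfsgLib.Suzuki
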