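import Mathlib
import Cfsg.Prelude.Def_LieExceptional
import Cfsg.Agent.Lib.Suzuki.Partition

/-!
Summary facts on centralisers and torus normalisers of `Cfsg.Sz F m`.
-/

set_option autoImplicit false

namespace CfsgLib.Suzuki

open Matrix
open scoped Pointwise

variable {F : Type*} [Field F] [Fintype F] {m : ℕ}

local notation "Pt" => Projectivization F (Fin 4 → F)

variable (h : SzHyp F m)
include h

theorem centralizer_mem_torus {u : Cfsg.Sz F m} (hu : u ∈ torus h) (hu1 : u ≠ 1) :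
    Subgroup.centralizer {u} = torus h := by
  obtain ⟨k, rfl⟩ := hu
  have hk : k ≠ 1 := fun e => hu1 (by rw [e, map_one])
  refine le_antisymm (fun x hx => centralizer_dS h hk ?_) ?_
  · exact (Subgroup.mem_centralizer_singleton_iff.1 hx).symm
  · rintro _ ⟨j, rfl⟩
    rw [Subgroup.mem_centralizer_singleton_iff, ← map_mul, ← map_mul, mul_comm]

theorem centralizer_mem_conj_torus (x : Cfsg.Sz F m) {u : Cfsg.Sz F m}
    (hu : u ∈ (torus h).map (MulAut.conj x).toMonoidHom) (hu1 : u ≠ 1) :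
    Subgroup.centralizer {u} = (torus h).map (MulAut.conj x).toMonoidHom := by
  rw [mem_map_conj] at hu
  have h1 : x⁻¹ * u * x ≠ 1 := fun e => hu1 (by
    calc u = x * (x⁻¹ * u * x) * x⁻¹ := by group
      _ = 1 := by rw [e]; group)
  ext y
  rw [mem_map_conj, ← centralizer_mem_torus h hu h1, Subgroup.mem_centralizer_singleton_iff,
    Subgroup.mem_centralizer_singleton_iff]
  constructor
  · intro e
    calc x⁻¹ * y * x * (x⁻¹ * u * x) = x⁻¹ * (y * u) * x := by group
      _ = _ := by rw [e]; group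
  · intro e
    calc y * u = x * (x⁻¹ * y * x * (x⁻¹ * u * x)) * x⁻¹ := by group
      _ = _ := by rw [e]; group

/-- Every non-identity element is a 2-element or has a cyclic self-centralising centraliser. -/
theorem two_or_cyclic_centralizer {g : Cfsg.Sz F m} (hg : g ≠ 1) :
    (∃ i : ℕ, orderOf g = 2 ^ i) ∨
      ∃ A : Subgroup (Cfsg.Sz F m), Subgroup.centralizer {g} = A ∧ IsCyclic A ∧
        Nat.card A ∈ ({2 ^ (2 * m + 1) - 1, 2 ^ (2 * m + 1) + 2 ^ (m + 1) + 1,
          2 ^ (2 * m + 1) - 2 ^ (m + 1) + 1} : Set ℕ) ∧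
        ∀ x ∈ A, x ≠ 1 → Subgroup.centralizer {x} = A := by
  by_cases hfree : g ∈ freeSet h
  · right
    obtain ⟨U, hU, hgU⟩ := mem_class_of_free h hfree
    refine ⟨U, hU.centralizer_eq h hgU hg, hU.isCyclic h, ?_,
      fun x hx hx1 => hU.centralizer_eq h hx hx1⟩
    obtain ⟨U₁, U₂, -, -, hk₁, hk₂, -, -, hall⟩ := tori_main h
    rcases hall U hU with e | e <;> rw [e]
    · exact Or.inr (Or.inl hk₁)
    · exact Or.inr (Or.inr hk₂)
  · obtain ⟨p, hp, he⟩ : ∃ p ∈ Cfsg.suzukiOvoid F m, g • p = p := by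
      by_contra hc
      exact hfree fun p hp e => hc ⟨p, hp, e⟩
    obtain ⟨x, hx | ⟨k, -, hx⟩⟩ := exists_normal_form h hp he
    · left
      obtain ⟨a, ha⟩ := IsPGroup.iff_orderOf.1 (isPGroup_tGroup h) ⟨_, hx⟩
      rw [Subgroup.orderOf_mk, show x⁻¹ * g * x = MulAut.conj x⁻¹ g by simp,
        MulEquiv.orderOf_eq] at ha
      exact ⟨a, ha⟩
    · right
      have hgA : g ∈ (torus h).map (MulAut.conj x).toMonoidHom :=
        mem_map_conj.2 (by rw [hx]; exact ⟨k, rfl⟩)
      refine ⟨_, centralizer_mem_conj_torus h x hgA hg,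
        ((torus h).equivMapOfInjective _ (MulAut.conj x).injective).isCyclic.1 (isCyclic_torus h),
        Or.inl ((Subgroup.card_map_of_injective (MulAut.conj x).injective).trans (card_torus h)),
        fun y hy hy1 => centralizer_mem_conj_torus h x hy hy1⟩

theorem mem_normalizer_torus {g : Cfsg.Sz F m} :
    g ∈ Subgroup.normalizer (torus h : Set (Cfsg.Sz F m)) ↔
      g ∈ torus h ∨ ∃ j, g = wS h * dS h j := by
  constructor
  · intro hg
    obtain ⟨x, hx0, hx1⟩ := h.exists_ne_zero_one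
    set k : Fˣ := Units.mk0 x hx0
    have hk : k ≠ 1 := fun e => hx1 (congrArg Units.val e)
    obtain ⟨i, hi⟩ := (Subgroup.mem_normalizer_iff.1 hg (dS h k)).1 ⟨k, rfl⟩
    have hi1 : i ≠ 1 := by
      rintro rfl
      rw [map_one, eq_comm, conj_eq_one_iff] at hi
      exact hk (dS_injective h (hi.trans (dS_one h).symm))
    have hfix : ∀ p : Pt, dS h k • p = p → dS h i • (g • p) = g • p := fun p hp => by
      have e : dS h i = g * dS h k * g⁻¹ := hi
      rw [e, mul_smul, inv_smul_smul, mul_smul, hp]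
    have h1 := dS_fixed' h hi1 (smul_ovoid g.2 pInf_mem) (hfix _ (dS_smul_pInf h k))
    have h2 := dS_fixed' h hi1 (smul_ovoid g.2 (pAff_mem 0 0)) (hfix _ (dS_smul_p0 h k))
    change g • (pInf : Pt) = pInf ∨ g • (pInf : Pt) = pAff m (0 : F) 0 at h1
    change g • pAff m (0 : F) 0 = pInf ∨ g • pAff m (0 : F) 0 = pAff m (0 : F) 0 at h2
    rcases h1 with h1 | h1 <;> rcases h2 with h2 | h2
    · exact absurd (MulAction.injective g (h2.trans h1.symm)) (pAff_ne_pInf 0 0)
    · obtain ⟨j, rfl⟩ := exists_dS h h1 h2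
      exact Or.inl ⟨j, rfl⟩
    · obtain ⟨j, hj⟩ := exists_dS h (g := wS h * g)
        (by rw [mul_smul, h1, wS_smul_p0]) (by rw [mul_smul, h2, wS_smul_pInf])
      exact Or.inr ⟨j, by rw [← hj, ← mul_assoc, wS_mul_self, one_mul]⟩
    · exact absurd (MulAction.injective g (h2.trans h1.symm)) (pAff_ne_pInf 0 0)
  · rintro (hg | ⟨j, rfl⟩)
    · exact Subgroup.le_normalizer hg
    · refine mul_mem ?_ (Subgroup.le_normalizer ⟨j, rfl⟩)
      rw [Subgroup.mem_normalizer_iff]
      intro n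
      constructor
      · rintro ⟨i, rfl⟩
        refine ⟨i⁻¹, ?_⟩
        rw [wS_inv]
        exact (wS_conj_dS h i).symm
      · rintro ⟨i, hi⟩
        refine ⟨i⁻¹, ?_⟩
        rw [wS_inv] at hi
        show dS h i⁻¹ = n
        rw [← wS_conj_dS, show dS h i = wS h * n * wS h from hi, ← mul_assoc, ← mul_assoc,
          wS_mul_self, one_mul, mul_assoc, wS_mul_self, mul_one]

theorem card_normalizer_torus :
    Nat.card (Subgroup.normalizer (torus h : Set (Cfsg.Sz F m))) =
      2 * (2 ^ (2 * m + 1) - 1) := by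
  let f : Fˣ ⊕ Fˣ → Subgroup.normalizer (torus h : Set (Cfsg.Sz F m)) := fun s =>
    match s with
    | .inl j => ⟨dS h j, (mem_normalizer_torus h).2 (Or.inl ⟨j, rfl⟩)⟩
    | .inr j => ⟨wS h * dS h j, (mem_normalizer_torus h).2 (Or.inr ⟨j, rfl⟩)⟩
  have hne : ∀ i j : Fˣ, dS h i ≠ wS h * dS h j := fun i j e => by
    have e1 : dS h i • (pInf : Pt) = (wS h * dS h j) • (pInf : Pt) := by rw [e]
    rw [dS_smul_pInf, mul_smul, dS_smul_pInf, wS_smul_pInf] at e1
    exact pAff_ne_pInf _ _ e1.symm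
  have hf : Function.Bijective f := by
    constructor
    · rintro (i | i) (j | j) e <;> have e' := congrArg Subtype.val e <;> simp only [f] at e'
      · rw [dS_injective h e']
      · exact absurd e' (hne i j)
      · exact absurd e'.symm (hne j i)
      · rw [dS_injective h (mul_left_cancel e')]
    · rintro ⟨g, hg⟩
      rcases (mem_normalizer_torus h).1 hg with ⟨j, rfl⟩ | ⟨j, rfl⟩
      · exact ⟨.inl j, rfl⟩
      · exact ⟨.inr j, rfl⟩
  rw [← Nat.card_congr (Equiv.ofBijective f hf), Nat.card_sum, Nat.card_units,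
    Nat.card_eq_fintype_card, h.card]
  omega

theorem card_normalizer_exc {U : Subgroup (Cfsg.Sz F m)} (hU : IsExcTorus U) :
    Nat.card (Subgroup.normalizer (U : Set (Cfsg.Sz F m))) = 4 * Nat.card U := by
  obtain ⟨U₁, U₂, hU₁, hU₂, -, -, hN₁, hN₂, hall⟩ := tori_main h
  obtain ⟨p, hp, hpU⟩ := Nat.exists_prime_and_dvd (n := Nat.card U)
    (by have := hU.five_le h; omega)
  have key : ∀ V : Subgroup (Cfsg.Sz F m), IsExcTorus V → Nat.card U = Nat.card V →
      Nat.card (Subgroup.normalizer (V : Set (Cfsg.Sz F m))) = 4 * Nat.card V →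
      Nat.card (Subgroup.normalizer (U : Set (Cfsg.Sz F m))) = 4 * Nat.card U := by
    intro V hV he hN
    obtain ⟨x, hx⟩ := hV.conj_of_dvd h hU hp (he ▸ hpU) hpU
    rw [he, hx, map_conj_normalizer, Subgroup.card_map_of_injective (MulAut.conj x).injective, hN]
  rcases hall U hU with e | e
  · exact key U₁ hU₁ e hN₁
  · exact key U₂ hU₂ e hN₂

end CfsgLib.Suzuki
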